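import Cfsg.Agent.Lib.Co1Local52.Iso

/-!
The commutator subgroup of the hyperbolic orthogonal group in dimension eight over two elements.
-/

set_option autoImplicit false

namespace Cfsg.Agent.Lib.Co1Local52

open Cfsg

/-- The quadratic form in dimension eight. -/
abbrev f8 : (Fin 4 ⊕ Fin 4 → ZMod 2) → ZMod 2 := Cfsg.quadFormPlus 4 (ZMod 2)

/-- The quadratic form of minus type. -/
abbrev fW (m : ℕ) : ((Fin m ⊕ Fin m) ⊕ Fin 2 → ZMod 2) → ZMod 2 :=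
  Cfsg.quadFormMinus m (ZMod 2) 1 1

theorem omega8_index : (Cfsg.Omega (ZMod 2) f8).index = 2 :=
  omega_index (Forms.qPlus 4) (OrthStd.quadFormPlus_eq 4) (Forms.qPlus_nondeg 4) (by simp) (by simp)

theorem omega8_refl_notMem (g : Cfsg.isometryGroup (ZMod 2) f8) (v : Fin 4 ⊕ Fin 4 → ZMod 2)
    (hv : f8 v = 1) (hg : ∀ x, mv g x = reflFun f8 v x) : g ∉ Cfsg.Omega (ZMod 2) f8 :=
  refl_notMem (Forms.qPlus 4) (OrthStd.quadFormPlus_eq 4) (Forms.qPlus_nondeg 4) (by simp) g v hv hg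

theorem exists_refl8 (v : Fin 4 ⊕ Fin 4 → ZMod 2) (hv : f8 v = 1) :
    ∃ g : Cfsg.isometryGroup (ZMod 2) f8, g ∉ Cfsg.Omega (ZMod 2) f8 ∧
      ∀ x, mv g x = reflFun f8 v x := by
  obtain ⟨g, hg⟩ := exists_refl (Forms.qPlus 4) (OrthStd.quadFormPlus_eq 4) v hv
  exact ⟨g, omega8_refl_notMem g v hv hg, hg⟩

theorem exists_reflW (m : ℕ) (w : (Fin m ⊕ Fin m) ⊕ Fin 2 → ZMod 2) (hw : fW m w = 1) :
    ∃ g : Cfsg.isometryGroup (ZMod 2) (fW m), ∀ x, mv g x = reflFun (fW m) w x :=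
  exists_refl (Forms.qMinus m 1 1) (fun v => (Forms.qMinus_apply m 1 1 v).symm) w hw

theorem omega8_mul_mem {g h : Cfsg.isometryGroup (ZMod 2) f8} (hg : g ∉ Cfsg.Omega (ZMod 2) f8)
    (hh : h ∉ Cfsg.Omega (ZMod 2) f8) : g * h ∈ Cfsg.Omega (ZMod 2) f8 :=
  (Subgroup.mul_mem_iff_of_index_two omega8_index).2 (iff_of_false hg hh)

end Cfsg.Agent.Lib.Co1Local52
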