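import Cfsg.Agent.Lib.Co1Local52.Omega

/-!
An element of odd prime order of the orthogonal group in dimension eight whose fixed space is of
minus type: its centraliser and the commutator subgroup on the fixed space.
-/

set_option autoImplicit false

namespace Cfsg.Agent.Lib.Co1Local52

open Cfsg
open scoped Matrix

/-- The base singular vector. -/
def w0 : Fin 4 ⊕ Fin 4 → ZMod 2 := Pi.single (Sum.inl 3) 1

/-- The data of an element with fixed space of minus type. -/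
structure Datum (p m : ℕ) where
  prime : p.Prime
  odd : Odd p
  mod_eq : 4096 % p = 1
  σ : Cfsg.isometryGroup (ZMod 2) f8
  pow_eq : σ ^ p = 1
  ne_one : σ ≠ 1
  emb : Matrix (Fin 4 ⊕ Fin 4) ((Fin m ⊕ Fin m) ⊕ Fin 2) (ZMod 2)
  prj : Matrix ((Fin m ⊕ Fin m) ⊕ Fin 2) (Fin 4 ⊕ Fin 4) (ZMod 2)
  prj_emb : ∀ w, prj *ᵥ (emb *ᵥ w) = w
  fix_emb : ∀ w, mv σ (emb *ᵥ w) = emb *ᵥ w
  prj_fix : ∀ v, prj *ᵥ (mv σ v) = prj *ᵥ v
  fixed : ∀ v, mv σ v = v → emb *ᵥ (prj *ᵥ v) = v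
  split : ∀ v, f8 v = fW m (prj *ᵥ v) + f8 (v + emb *ᵥ (prj *ᵥ v))
  cyclic : ∀ g, Commute g σ → (∀ w, mv g (emb *ᵥ w) = emb *ᵥ w) → g ∈ Subgroup.zpowers σ

namespace Datum

variable {p m : ℕ} (D : Datum p m)

theorem add_self8 (v : Fin 4 ⊕ Fin 4 → ZMod 2) : v + v = 0 :=
  funext fun _ => CharTwo.add_self_eq_zero _

theorem f8_zero : f8 0 = 0 := by decide

theorem form_emb (w : (Fin m ⊕ Fin m) ⊕ Fin 2 → ZMod 2) : f8 (D.emb *ᵥ w) = fW m w := by
  rw [D.split, D.prj_emb, add_self8, f8_zero, add_zero]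

theorem emb_injective : Function.Injective (fun w => D.emb *ᵥ w) := fun a b h => by
  simpa only [D.prj_emb] using congrArg (D.prj *ᵥ ·) h

theorem pol_emb (w : (Fin m ⊕ Fin m) ⊕ Fin 2 → ZMod 2) (v : Fin 4 ⊕ Fin 4 → ZMod 2) :
    pol f8 (D.emb *ᵥ w) v = pol (fW m) w (D.prj *ᵥ v) := by
  have h1 := D.split (D.emb *ᵥ w + v)
  have e : D.emb *ᵥ w + v + D.emb *ᵥ (D.prj *ᵥ (D.emb *ᵥ w + v)) =
      v + D.emb *ᵥ (D.prj *ᵥ v) := by
    rw [Matrix.mulVec_add, D.prj_emb, Matrix.mulVec_add]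
    calc D.emb *ᵥ w + v + (D.emb *ᵥ w + D.emb *ᵥ (D.prj *ᵥ v))
        = (D.emb *ᵥ w + D.emb *ᵥ w) + (v + D.emb *ᵥ (D.prj *ᵥ v)) := by abel
      _ = _ := by rw [add_self8, zero_add]
  rw [e, Matrix.mulVec_add, D.prj_emb] at h1
  rw [pol, pol, h1, D.form_emb, D.split v]
  generalize f8 (v + D.emb *ᵥ (D.prj *ᵥ v)) = a
  generalize fW m (w + D.prj *ᵥ v) = b
  generalize fW m w = c
  generalize fW m (D.prj *ᵥ v) = d
  revert a b c d; decide

/-- The extension of an isometry of the fixed space. -/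
def extFun (a : Cfsg.isometryGroup (ZMod 2) (fW m)) (v : Fin 4 ⊕ Fin 4 → ZMod 2) :
    Fin 4 ⊕ Fin 4 → ZMod 2 := v + D.emb *ᵥ (mv a (D.prj *ᵥ v) + D.prj *ᵥ v)

theorem prj_extFun (a : Cfsg.isometryGroup (ZMod 2) (fW m)) (v : Fin 4 ⊕ Fin 4 → ZMod 2) :
    D.prj *ᵥ (D.extFun a v) = mv a (D.prj *ᵥ v) := by
  rw [extFun, Matrix.mulVec_add, D.prj_emb, add_left_comm,
    show D.prj *ᵥ v + D.prj *ᵥ v = 0 from funext fun _ => CharTwo.add_self_eq_zero _, add_zero]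

theorem extFun_add (a : Cfsg.isometryGroup (ZMod 2) (fW m)) (v v' : Fin 4 ⊕ Fin 4 → ZMod 2) :
    D.extFun a (v + v') = D.extFun a v + D.extFun a v' := by
  simp only [extFun, Matrix.mulVec_add, mv_add]
  abel

theorem extFun_one (v : Fin 4 ⊕ Fin 4 → ZMod 2) : D.extFun 1 v = v := by
  rw [extFun, mv_one, show D.prj *ᵥ v + D.prj *ᵥ v = 0 from
    funext fun _ => CharTwo.add_self_eq_zero _, Matrix.mulVec_zero, add_zero]

theorem extFun_mul (a b : Cfsg.isometryGroup (ZMod 2) (fW m)) (v : Fin 4 ⊕ Fin 4 → ZMod 2) :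
    D.extFun (a * b) v = D.extFun a (D.extFun b v) := by
  conv_rhs => rw [extFun, D.prj_extFun, extFun]
  rw [extFun, mv_mul]
  simp only [Matrix.mulVec_add]
  calc v + (D.emb *ᵥ mv a (mv b (D.prj *ᵥ v)) + D.emb *ᵥ (D.prj *ᵥ v))
      = v + (D.emb *ᵥ mv a (mv b (D.prj *ᵥ v)) + D.emb *ᵥ (D.prj *ᵥ v)) +
          (D.emb *ᵥ mv b (D.prj *ᵥ v) + D.emb *ᵥ mv b (D.prj *ᵥ v)) := by
        rw [add_self8, add_zero]
    _ = _ := by abel

theorem f8_extFun (a : Cfsg.isometryGroup (ZMod 2) (fW m)) (v : Fin 4 ⊕ Fin 4 → ZMod 2) :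
    f8 (D.extFun a v) = f8 v := by
  rw [D.split (D.extFun a v), D.prj_extFun, mv_form (f := fW m), D.split v]
  refine congrArg (fun x => fW m (D.prj *ᵥ v) + f8 x) ?_
  rw [extFun, Matrix.mulVec_add]
  calc v + (D.emb *ᵥ mv a (D.prj *ᵥ v) + D.emb *ᵥ (D.prj *ᵥ v)) + D.emb *ᵥ mv a (D.prj *ᵥ v)
      = v + D.emb *ᵥ (D.prj *ᵥ v) +
          (D.emb *ᵥ mv a (D.prj *ᵥ v) + D.emb *ᵥ mv a (D.prj *ᵥ v)) := by abel
    _ = _ := by rw [add_self8, add_zero]

/-- The matrix of an extension. -/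
noncomputable def extMat : Cfsg.isometryGroup (ZMod 2) (fW m) →*
    Matrix (Fin 4 ⊕ Fin 4) (Fin 4 ⊕ Fin 4) (ZMod 2) where
  toFun a := LinearMap.toMatrix'
    (AddMonoidHom.toZModLinearMap 2 (AddMonoidHom.mk' (D.extFun a) (D.extFun_add a)))
  map_one' := by
    rw [show AddMonoidHom.toZModLinearMap 2 (AddMonoidHom.mk' (D.extFun 1) (D.extFun_add 1)) =
      LinearMap.id from LinearMap.ext D.extFun_one, LinearMap.toMatrix'_id]
  map_mul' a b := by
    rw [show AddMonoidHom.toZModLinearMap 2 (AddMonoidHom.mk' (D.extFun (a * b)) (D.extFun_add (a * b))) =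
      (AddMonoidHom.toZModLinearMap 2 (AddMonoidHom.mk' (D.extFun a) (D.extFun_add a))).comp
        (AddMonoidHom.toZModLinearMap 2 (AddMonoidHom.mk' (D.extFun b) (D.extFun_add b)))
      from LinearMap.ext (D.extFun_mul a b), LinearMap.toMatrix'_comp]

/-- The extension homomorphism. -/
noncomputable def ext : Cfsg.isometryGroup (ZMod 2) (fW m) →* Cfsg.isometryGroup (ZMod 2) f8 :=
  D.extMat.toHomUnits.codRestrict _ fun a u _ => by
    show f8 ((D.extMat a).mulVec u) = f8 u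
    rw [show (D.extMat a).mulVec u = D.extFun a u from LinearMap.toMatrix'_mulVec _ _, f8_extFun]

theorem mv_ext (a : Cfsg.isometryGroup (ZMod 2) (fW m)) (v : Fin 4 ⊕ Fin 4 → ZMod 2) :
    mv (D.ext a) v = D.extFun a v := LinearMap.toMatrix'_mulVec _ _

theorem ext_comm (a : Cfsg.isometryGroup (ZMod 2) (fW m)) : Commute (D.ext a) D.σ := by
  refine iso_ext fun v => ?_
  rw [mv_mul, mv_mul, mv_ext, mv_ext, extFun, extFun, D.prj_fix, mv_add, D.fix_emb]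

/-- The centraliser in the orthogonal group. -/
abbrev CO : Subgroup (Cfsg.isometryGroup (ZMod 2) f8) := Subgroup.centralizer {D.σ}

theorem commute_of (g : D.CO) : Commute (g : Cfsg.isometryGroup (ZMod 2) f8) D.σ :=
  Subgroup.mem_centralizer_singleton_iff.1 g.2

theorem emb_prj_mv (g : D.CO) (w : (Fin m ⊕ Fin m) ⊕ Fin 2 → ZMod 2) :
    D.emb *ᵥ (D.prj *ᵥ (mv (g : Cfsg.isometryGroup (ZMod 2) f8) (D.emb *ᵥ w))) =
      mv (g : Cfsg.isometryGroup (ZMod 2) f8) (D.emb *ᵥ w) := by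
  refine D.fixed _ ?_
  rw [← mv_mul, ← (D.commute_of g).eq, mv_mul, D.fix_emb]

/-- The restriction to the fixed space, on vectors. -/
def resFun (g : D.CO) (w : (Fin m ⊕ Fin m) ⊕ Fin 2 → ZMod 2) :
    (Fin m ⊕ Fin m) ⊕ Fin 2 → ZMod 2 :=
  D.prj *ᵥ (mv (g : Cfsg.isometryGroup (ZMod 2) f8) (D.emb *ᵥ w))

theorem emb_resFun (g : D.CO) (w : (Fin m ⊕ Fin m) ⊕ Fin 2 → ZMod 2) :
    D.emb *ᵥ (D.resFun g w) = mv (g : Cfsg.isometryGroup (ZMod 2) f8) (D.emb *ᵥ w) :=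
  D.emb_prj_mv g w

theorem resFun_add (g : D.CO) (w w' : (Fin m ⊕ Fin m) ⊕ Fin 2 → ZMod 2) :
    D.resFun g (w + w') = D.resFun g w + D.resFun g w' := by
  simp only [resFun, Matrix.mulVec_add, mv_add]

/-- The matrix of a restriction. -/
noncomputable def resMat :
    D.CO →* Matrix ((Fin m ⊕ Fin m) ⊕ Fin 2) ((Fin m ⊕ Fin m) ⊕ Fin 2) (ZMod 2) where
  toFun g := LinearMap.toMatrix'
    (AddMonoidHom.toZModLinearMap 2 (AddMonoidHom.mk' (D.resFun g) (D.resFun_add g)))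
  map_one' := by
    rw [show AddMonoidHom.toZModLinearMap 2 (AddMonoidHom.mk' (D.resFun 1) (D.resFun_add 1)) =
      LinearMap.id from LinearMap.ext fun w => by
        show D.prj *ᵥ (mv ((1 : D.CO) : Cfsg.isometryGroup (ZMod 2) f8) (D.emb *ᵥ w)) = w
        rw [OneMemClass.coe_one, mv_one, D.prj_emb],
      LinearMap.toMatrix'_id]
  map_mul' g h := by
    rw [show AddMonoidHom.toZModLinearMap 2 (AddMonoidHom.mk' (D.resFun (g * h)) (D.resFun_add (g * h))) =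
      (AddMonoidHom.toZModLinearMap 2 (AddMonoidHom.mk' (D.resFun g) (D.resFun_add g))).comp
        (AddMonoidHom.toZModLinearMap 2 (AddMonoidHom.mk' (D.resFun h) (D.resFun_add h)))
      from LinearMap.ext fun w => by
        show D.prj *ᵥ (mv ((g * h : D.CO) : Cfsg.isometryGroup (ZMod 2) f8) (D.emb *ᵥ w)) =
          D.prj *ᵥ (mv (g : Cfsg.isometryGroup (ZMod 2) f8) (D.emb *ᵥ (D.resFun h w)))
        rw [emb_resFun, Subgroup.coe_mul, mv_mul],
      LinearMap.toMatrix'_comp]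

/-- The restriction homomorphism. -/
noncomputable def res : D.CO →* Cfsg.isometryGroup (ZMod 2) (fW m) :=
  D.resMat.toHomUnits.codRestrict _ fun g u _ => by
    show fW m ((D.resMat g).mulVec u) = fW m u
    rw [show (D.resMat g).mulVec u = D.resFun g u from LinearMap.toMatrix'_mulVec _ _,
      ← D.form_emb, emb_resFun, mv_form (f := f8), D.form_emb]

theorem mv_res (g : D.CO) (w : (Fin m ⊕ Fin m) ⊕ Fin 2 → ZMod 2) :
    mv (D.res g) w = D.resFun g w := LinearMap.toMatrix'_mulVec _ _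

theorem emb_res (g : D.CO) (w : (Fin m ⊕ Fin m) ⊕ Fin 2 → ZMod 2) :
    D.emb *ᵥ (mv (D.res g) w) = mv (g : Cfsg.isometryGroup (ZMod 2) f8) (D.emb *ᵥ w) := by
  rw [mv_res, emb_resFun]

/-- The extension, inside the centraliser. -/
noncomputable def extC : Cfsg.isometryGroup (ZMod 2) (fW m) →* D.CO :=
  D.ext.codRestrict _ fun a => Subgroup.mem_centralizer_singleton_iff.2 (D.ext_comm a).eq

theorem res_extC (a : Cfsg.isometryGroup (ZMod 2) (fW m)) : D.res (D.extC a) = a := by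
  refine iso_ext fun w => ?_
  rw [mv_res, resFun]
  show D.prj *ᵥ (mv (D.ext a) (D.emb *ᵥ w)) = _
  rw [mv_ext, prj_extFun, D.prj_emb]

theorem mem_zpowers_of_res (g : D.CO) (h : D.res g = 1) :
    (g : Cfsg.isometryGroup (ZMod 2) f8) ∈ Subgroup.zpowers D.σ :=
  D.cyclic _ (D.commute_of g) fun w => by rw [← D.emb_res, h, mv_one]

theorem σ_mem_omega : D.σ ∈ Cfsg.Omega (ZMod 2) f8 := by
  obtain ⟨k, hk⟩ := D.odd
  have h : (D.σ * D.σ) ^ (k + 1) = D.σ := by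
    rw [← pow_two, ← pow_mul, show 2 * (k + 1) = p + 1 by omega, pow_succ, D.pow_eq, one_mul]
  rw [← h]
  exact pow_mem (Subgroup.mul_self_mem_of_index_two omega8_index _) _

/-- The extension of a reflection is not in the commutator subgroup. -/
theorem ext_refl_notMem {r : Cfsg.isometryGroup (ZMod 2) (fW m)}
    {w : (Fin m ⊕ Fin m) ⊕ Fin 2 → ZMod 2} (hw : fW m w = 1)
    (hr : ∀ x, mv r x = reflFun (fW m) w x) : D.ext r ∉ Cfsg.Omega (ZMod 2) f8 := by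
  refine omega8_refl_notMem _ (D.emb *ᵥ w) (by rw [D.form_emb, hw]) fun x => ?_
  rw [mv_ext, extFun, hr, reflFun, reflFun, ← D.pol_emb]
  rw [add_comm (D.prj *ᵥ x) _, add_assoc,
    show D.prj *ᵥ x + D.prj *ᵥ x = 0 from funext fun _ => CharTwo.add_self_eq_zero _, add_zero,
    Matrix.mulVec_smul]

theorem exists_refl_comm :
    ∃ r : Cfsg.isometryGroup (ZMod 2) (fW m), D.ext r ∉ Cfsg.Omega (ZMod 2) f8 := by
  have hw : fW m (Pi.single (Sum.inr 0) 1) = 1 := by simp [fW, Cfsg.quadFormMinus]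
  obtain ⟨r, hr⟩ := exists_reflW m _ hw
  exact ⟨r, D.ext_refl_notMem hw hr⟩

/-- Conjugacy to the element can be achieved inside the commutator subgroup. -/
theorem conj_omega {g τ : Cfsg.isometryGroup (ZMod 2) f8} (h : τ * g * τ⁻¹ = D.σ) :
    ∃ τ' ∈ Cfsg.Omega (ZMod 2) f8, τ' * g * τ'⁻¹ = D.σ := by
  by_cases hτ : τ ∈ Cfsg.Omega (ZMod 2) f8
  · exact ⟨τ, hτ, h⟩
  obtain ⟨r, hr⟩ := D.exists_refl_comm
  refine ⟨D.ext r * τ, omega8_mul_mem hr hτ, ?_⟩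
  calc D.ext r * τ * g * (D.ext r * τ)⁻¹ = D.ext r * (τ * g * τ⁻¹) * (D.ext r)⁻¹ := by group
    _ = D.σ := by rw [h, (D.ext_comm r).eq, mul_inv_cancel_right]

theorem ext_mem_omega {a : Cfsg.isometryGroup (ZMod 2) (fW m)}
    (ha : a ∈ Cfsg.Omega (ZMod 2) (fW m)) : D.ext a ∈ Cfsg.Omega (ZMod 2) f8 := by
  have h : (Cfsg.Omega (ZMod 2) (fW m)).map D.ext ≤ Cfsg.Omega (ZMod 2) f8 := by
    rw [Cfsg.Omega, commutator_def, Subgroup.map_commutator, Cfsg.Omega, commutator_def]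
    exact Subgroup.commutator_mono le_top le_top
  exact h ⟨a, ha, rfl⟩

theorem mem_omega_of_ext (hi : (Cfsg.Omega (ZMod 2) (fW m)).index = 2)
    {a : Cfsg.isometryGroup (ZMod 2) (fW m)} (ha : D.ext a ∈ Cfsg.Omega (ZMod 2) f8) :
    a ∈ Cfsg.Omega (ZMod 2) (fW m) := by
  by_contra hc
  obtain ⟨r, hr⟩ := D.exists_refl_comm
  by_cases hro : r ∈ Cfsg.Omega (ZMod 2) (fW m)
  · exact hr (D.ext_mem_omega hro)
  · have h : a * r ∈ Cfsg.Omega (ZMod 2) (fW m) :=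
      (Subgroup.mul_mem_iff_of_index_two hi).2 (iff_of_false hc hro)
    have h' := D.ext_mem_omega h
    rw [map_mul, Subgroup.mul_mem_iff_of_index_two omega8_index] at h'
    exact hr (h'.1 ha)

theorem res_mem_omega (hi : (Cfsg.Omega (ZMod 2) (fW m)).index = 2) (g : D.CO)
    (hg : (g : Cfsg.isometryGroup (ZMod 2) f8) ∈ Cfsg.Omega (ZMod 2) f8) :
    D.res g ∈ Cfsg.Omega (ZMod 2) (fW m) := by
  refine D.mem_omega_of_ext hi ?_
  have h1 : D.res (g * (D.extC (D.res g))⁻¹) = 1 := by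
    rw [map_mul, map_inv, res_extC, mul_inv_cancel]
  obtain ⟨i, hi'⟩ := Subgroup.mem_zpowers_iff.1 (D.mem_zpowers_of_res _ h1)
  rw [Subgroup.coe_mul, InvMemClass.coe_inv] at hi'
  have : D.ext (D.res g) = (D.σ ^ i)⁻¹ * (g : Cfsg.isometryGroup (ZMod 2) f8) := by
    rw [hi']
    show _ = ((g : Cfsg.isometryGroup (ZMod 2) f8) * (D.ext (D.res g))⁻¹)⁻¹ * _
    group
  rw [this]
  exact mul_mem (inv_mem (zpow_mem D.σ_mem_omega i)) hg

end Datum

end Cfsg.Agent.Lib.Co1Local52
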