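import Cfsg.Agent.Lib.Co1Local52.Rho
import Cfsg.Agent.Lib.Co1Local52.Datum

/-!
Two interchanged involutions: the intersection of their extraspecial groups has order four and each
acts as a unipotent radical in the centraliser of the other.
-/

set_option autoImplicit false

namespace Cfsg.Agent.Lib.Co1Local52

open Cfsg
open Cfsg.Agent.Lib.Co1Cent (V8 qf C1 Q1 z1)

/-- The quadratic form on codes. -/
def qn (a : ℕ) : Bool :=
  (a.testBit 0 && a.testBit 4) ^^ (a.testBit 1 && a.testBit 5) ^^ (a.testBit 2 && a.testBit 6) ^^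
    (a.testBit 3 && a.testBit 7)

/-- The polar form on codes. -/
def pn (a b : ℕ) : Bool := qn (a ^^^ b) ^^ qn a ^^ qn b

theorem bits8 : ∀ b0 b1 b2 b3 b4 b5 b6 b7 : Bool,
    (if b0 = true then (1 : ZMod 2) else 0) * (if b4 = true then 1 else 0) +
      (if b1 = true then (1 : ZMod 2) else 0) * (if b5 = true then 1 else 0) +
      (if b2 = true then (1 : ZMod 2) else 0) * (if b6 = true then 1 else 0) +
      (if b3 = true then (1 : ZMod 2) else 0) * (if b7 = true then 1 else 0) =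
    if ((b0 && b4) ^^ (b1 && b5) ^^ (b2 && b6) ^^ (b3 && b7)) = true then 1 else 0 := by
  decide +kernel

theorem qf_dec (a : ℕ) : qf (Co1Cent.dec a) = if qn a then 1 else 0 := by
  have h : (Co1Cent.ix (Sum.inl 0) : ℕ) = 0 ∧ (Co1Cent.ix (Sum.inl 1) : ℕ) = 1 ∧
      (Co1Cent.ix (Sum.inl 2) : ℕ) = 2 ∧ (Co1Cent.ix (Sum.inl 3) : ℕ) = 3 ∧
      (Co1Cent.ix (Sum.inr 0) : ℕ) = 4 ∧ (Co1Cent.ix (Sum.inr 1) : ℕ) = 5 ∧
      (Co1Cent.ix (Sum.inr 2) : ℕ) = 6 ∧ (Co1Cent.ix (Sum.inr 3) : ℕ) = 7 := by decide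
  obtain ⟨h0, h1, h2, h3, h4, h5, h6, h7⟩ := h
  simp only [qf, Cfsg.quadFormPlus, Co1Cent.dec, Fin.sum_univ_four, h0, h1, h2, h3, h4, h5, h6, h7,
    qn]
  exact bits8 _ _ _ _ _ _ _ _

theorem dec_xor (a b : ℕ) : Co1Cent.dec (a ^^^ b) = Co1Cent.dec a + Co1Cent.dec b := by
  funext k
  simp only [Co1Cent.dec, Pi.add_apply, Nat.testBit_xor]
  cases a.testBit (Co1Cent.ix k) <;> cases b.testBit (Co1Cent.ix k) <;> rfl

theorem pol_dec (a b : ℕ) :
    pol qf (Co1Cent.dec a) (Co1Cent.dec b) = if pn a b then 1 else 0 := by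
  rw [pol, ← dec_xor, qf_dec, qf_dec, qf_dec, pn]
  cases qn (a ^^^ b) <;> cases qn a <;> cases qn b <;> rfl

theorem dec_zero : Co1Cent.dec 0 = 0 := by decide +kernel

theorem dec_eight : Co1Cent.dec 8 = w0 := by decide +kernel

/-- The code of a vector. -/
def enc8' (c : V8) : Fin 256 := ⟨Co1Cent.enc8 c % 256, Nat.mod_lt _ (by norm_num)⟩

theorem dec_enc8 (c : V8) : Co1Cent.dec (enc8' c) = c := by
  have h : ∀ a : ℕ, Co1Cent.dec (a % 256) = Co1Cent.dec a := fun a => by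
    funext k
    rw [Co1Cent.dec, Co1Cent.dec, show (256 : ℕ) = 2 ^ 8 from rfl, Nat.testBit_mod_two_pow,
      decide_eq_true (Co1Cent.ix k).2, Bool.true_and]
  exact (h _).trans (Co1Cent.dec_enc c)

theorem split_test : ((List.range 256).all fun a => qn a || pn a 8 || Nat.beq a 0 || Nat.beq a 8 ||
    (((List.range 256).any fun v => qn v && !(pn v 8) && pn a v) &&
      (List.range 256).any fun v => qn v && !(pn v 8) && !(pn a v))) = true := by
  decide +kernel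

theorem qf_diag (c : V8) : pol qf c c = 0 := by
  rw [pol, Co1Cent.two_vanish, show qf 0 = 0 from by decide +kernel, zero_add,
    CharTwo.add_self_eq_zero]

theorem pol_comm' (c d : V8) : pol qf c d = pol qf d c := by
  rw [pol, pol, add_comm c d]; ring

theorem pol_add_right (c d : V8) : pol qf c (c + d) = pol qf c d := by
  rw [pol, pol, ← add_assoc, Co1Cent.two_vanish, zero_add]
  ring

theorem split_refl (c : V8) : qf c = 0 → pol qf c w0 = 0 → c ≠ 0 → c ≠ w0 →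
    (∃ v : V8, qf v = 1 ∧ pol qf v w0 = 0 ∧ pol qf c v = 1) ∧
      ∃ v : V8, qf v = 1 ∧ pol qf v w0 = 0 ∧ pol qf c v = 0 := by
  intro h1 h2 h3 h4
  rw [← dec_enc8 c] at h1 h2 h3 h4 ⊢
  generalize enc8' c = a at h1 h2 h3 h4 ⊢
  have ha : (a : ℕ) ≠ 0 := fun e => h3 (by rw [e]; exact dec_zero)
  have ha' : (a : ℕ) ≠ 8 := fun e => h4 (by rw [e, dec_eight])
  rw [qf_dec, ite_eq_right_iff] at h1
  rw [← dec_eight, pol_dec, ite_eq_right_iff] at h2
  have hq : qn a = false := by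
    by_contra hc; exact one_ne_zero (h1 (by simpa using hc))
  have hp : pn a 8 = false := by
    by_contra hc; exact one_ne_zero (h2 (by simpa using hc))
  have h := List.all_eq_true.mp split_test a (List.mem_range.mpr a.2)
  simp only [Nat.beq_eq, Bool.or_eq_true, Bool.and_eq_true, List.any_eq_true, List.mem_range,
    Bool.not_eq_true', hq, hp, Bool.false_eq_true, false_or, ha, ha'] at h
  obtain ⟨⟨v, -, ⟨hv1, hv2⟩, hv3⟩, u, -, ⟨hu1, hu2⟩, hu3⟩ := h
  refine ⟨⟨Co1Cent.dec v, ?_, ?_, ?_⟩, Co1Cent.dec u, ?_, ?_, ?_⟩ <;>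
    simp [← dec_eight, qf_dec, pol_dec, hv1, hv2, hv3, hu1, hu2, hu3]

theorem w0_good : w0 ≠ 0 ∧ qf w0 = 0 := by decide +kernel

/-- Every vector of the perp of the base vector is separated from its image by some element. -/
theorem exists_moving (c : V8) (h1 : qf c = 0) (h2 : pol qf c w0 = 0) (h3 : c ≠ 0) (h4 : c ≠ w0) :
    ∃ g ∈ Cfsg.Omega (ZMod 2) qf, mv g w0 = w0 ∧ pol qf c (mv g c) = 1 := by
  obtain ⟨⟨v, hv, hvw, hvc⟩, u, hu, huw, huc⟩ := split_refl c h1 h2 h3 h4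
  obtain ⟨r, hr, hrf⟩ := exists_refl8 v hv
  obtain ⟨s, hs, hsf⟩ := exists_refl8 u hu
  refine ⟨r * s, omega8_mul_mem hr hs, ?_, ?_⟩
  · rw [mv_mul, hsf, reflFun, huw, zero_smul, add_zero, hrf, reflFun, hvw, zero_smul, add_zero]
  · rw [mv_mul, hsf, reflFun, pol_comm' u c, huc, zero_smul, add_zero, hrf, reflFun,
      pol_comm' v c, hvc, one_smul, pol_add_right, hvc]

/-- The data of two interchanged involutions. -/
structure Swap where
  t : Spor.Co1
  x : C1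
  mem : x ∈ Q1
  coord_eq : coord8 x = w0
  fst : t * z1 * t⁻¹ = (x : Spor.Co1)
  snd : t * (x : Spor.Co1) * t⁻¹ = z1

theorem exists_swap_w0 : Nonempty Swap := by
  obtain ⟨x, hx, hxc⟩ := coord8_surjective w0
  obtain ⟨t, h1, h2⟩ := exists_swap hx (hxc ▸ w0_good.1) (hxc ▸ w0_good.2)
  exact ⟨⟨t, x, hx, hxc, h1, h2⟩⟩

namespace Swap

variable (W : Swap)

theorem mem_of_comm {y : Spor.Co1} (h : y * (W.x : Spor.Co1) = (W.x : Spor.Co1) * y) :
    W.t⁻¹ * y * W.t ∈ C1 := by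
  refine Subgroup.mem_centralizer_singleton_iff.2 ?_
  rw [← W.fst] at h
  calc W.t⁻¹ * y * W.t * z1 = W.t⁻¹ * (y * (W.t * z1 * W.t⁻¹)) * W.t := by group
    _ = W.t⁻¹ * (W.t * z1 * W.t⁻¹ * y) * W.t := by rw [h]
    _ = z1 * (W.t⁻¹ * y * W.t) := by group

/-- Membership in both extraspecial groups. -/
def Both (d : C1) : Prop :=
  d ∈ Q1 ∧ ∃ e : C1, e ∈ Q1 ∧ (d : Spor.Co1) = W.t * (e : Spor.Co1) * W.t⁻¹

theorem comm_x {d : C1} (hd : W.Both d) : d * W.x = W.x * d := by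
  obtain ⟨-, e, -, he⟩ := hd
  refine Subtype.ext ?_
  show (d : Spor.Co1) * (W.x : Spor.Co1) = (W.x : Spor.Co1) * d
  rw [he, ← W.fst, conj_mul, conj_mul, Subgroup.mem_centralizer_singleton_iff.1 e.2]

theorem both_cases {u v : C1} (hu : W.Both u) (hv : W.Both v) : v * u = u * v := by
  obtain ⟨huQ, a, ha, hua⟩ := hu
  obtain ⟨hvQ, b, hb, hvb⟩ := hv
  rcases comm_or huQ hvQ with h | h
  · exact h
  rcases comm_or ha hb with h' | h'
  · refine Subtype.ext ?_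
    show (v : Spor.Co1) * u = u * v
    rw [hua, hvb, conj_mul, conj_mul]
    exact congrArg (fun x : Spor.Co1 => W.t * x * W.t⁻¹) (congrArg Subtype.val h')
  exfalso
  have e1 : (v : Spor.Co1) * u = z1 * ((u : Spor.Co1) * v) := congrArg Subtype.val h
  have e2 : (b : Spor.Co1) * a = z1 * ((a : Spor.Co1) * b) := congrArg Subtype.val h'
  rw [hua, hvb, conj_mul, conj_mul, e2, ← conj_mul, W.fst] at e1
  have e3 : (W.x : Spor.Co1) = z1 := mul_right_cancel e1
  have : W.x = zq := Subtype.ext e3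
  exact w0_good.1 (by rw [← W.coord_eq, this, coord8_zq])

theorem qf_both {d : C1} (hd : W.Both d) : qf (coord8 d) = 0 := by
  obtain ⟨hdQ, e, he, hde⟩ := hd
  rw [qf_eq_zero_iff hdQ]
  rw [sq_coord8 hdQ]
  split_ifs with h
  · rfl
  exfalso
  have h1 : (d : Spor.Co1) * d = z1 := congrArg Subtype.val (show d * d = zq by
    rw [sq_coord8 hdQ, if_neg h])
  rw [hde, conj_mul] at h1
  rcases (show e * e = 1 ∨ e * e = zq by rw [sq_coord8 he]; split_ifs <;> simp) with h' | h'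
  · rw [show (e : Spor.Co1) * e = 1 from congrArg Subtype.val h', mul_one, mul_inv_cancel] at h1
    exact zq_ne_one (Subtype.ext h1.symm)
  · rw [show (e : Spor.Co1) * e = z1 from congrArg Subtype.val h', W.fst] at h1
    have : W.x = zq := Subtype.ext h1
    exact w0_good.1 (by rw [← W.coord_eq, this, coord8_zq])

/-- The intersection has coordinates in the line of the base vector. -/
theorem both_coord {d : C1} (hd : W.Both d) : coord8 d = 0 ∨ coord8 d = w0 := by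
  by_contra hc
  rw [not_or] at hc
  have hpol : pol qf (coord8 d) w0 = 0 := by
    rw [← W.coord_eq, ← comm_iff hd.1 W.mem]
    exact (W.comm_x hd).symm
  obtain ⟨g, hg, hgw, hgc⟩ := exists_moving _ (W.qf_both hd) hpol hc.1 hc.2
  obtain ⟨k, rfl⟩ := exists_lift_omega hg
  obtain ⟨k', hk', hkx⟩ : ∃ k' : C1, rho2 k' = rho2 k ∧ k' * W.x * k'⁻¹ = W.x := by
    rw [← W.coord_eq, mv_rho2_coord8 k W.mem] at hgw
    rcases eq_or_of_coord8_eq (conj_mem_Q1 k W.mem) W.mem hgw with e | e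
    · exact ⟨k, rfl, e.symm⟩
    · obtain ⟨q, hq, hqx⟩ := exists_noncomm (conj_mem_Q1 k W.mem)
        (by rw [hgw, W.coord_eq]; exact w0_good.1)
      refine ⟨q * k, ?_, ?_⟩
      · rw [map_mul, show rho2 q = 1 from MonoidHom.mem_ker.1 (by rw [ker_rho2]; exact hq), one_mul]
      · conv_rhs => rw [e, ← hqx]
        simp only [mul_assoc, mul_inv_rev]
  obtain ⟨hdQ, e, he, hde⟩ := hd
  have hkm : W.t⁻¹ * (k' : Spor.Co1) * W.t ∈ C1 :=
    W.mem_of_comm (congrArg Subtype.val (mul_inv_eq_iff_eq_mul.1 hkx))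
  have hb : W.Both (k' * d * k'⁻¹) := by
    refine ⟨conj_mem_Q1 k' hdQ, _, conj_mem_Q1 ⟨_, hkm⟩ he, ?_⟩
    show (k' : Spor.Co1) * d * (k' : Spor.Co1)⁻¹ =
      W.t * (W.t⁻¹ * k' * W.t * e * (W.t⁻¹ * k' * W.t)⁻¹) * W.t⁻¹
    rw [hde]; group
  have h := W.both_cases ⟨hdQ, e, he, hde⟩ hb
  rw [comm_iff hdQ (conj_mem_Q1 k' hdQ), ← mv_rho2_coord8 k' hdQ, hk', hgc] at h
  exact one_ne_zero h

/-- The conjugate of an element of the extraspecial group commuting with `x` fixes the base vector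
and induces a transvection on its perp. -/
theorem unipotent {q : C1} (hq : q ∈ Q1) (g : C1)
    (hg : (g : Spor.Co1) = W.t * (q : Spor.Co1) * W.t⁻¹) :
    mv (rho2 g) w0 = w0 ∧
      ∀ c : V8, pol qf c w0 = 0 → mv (rho2 g) c = c ∨ mv (rho2 g) c = c + w0 := by
  have hgx : g * W.x * g⁻¹ = W.x := by
    refine mul_inv_eq_iff_eq_mul.2 (Subtype.ext ?_)
    show (g : Spor.Co1) * (W.x : Spor.Co1) = (W.x : Spor.Co1) * g
    rw [hg, ← W.fst, conj_mul, conj_mul, Subgroup.mem_centralizer_singleton_iff.1 q.2]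
  refine ⟨by rw [← W.coord_eq, mv_rho2_coord8 g W.mem, hgx], fun c hc => ?_⟩
  obtain ⟨y, hy, rfl⟩ := coord8_surjective c
  rw [← W.coord_eq, ← comm_iff hy W.mem] at hc
  have hym : W.t⁻¹ * (y : Spor.Co1) * W.t ∈ C1 :=
    W.mem_of_comm (congrArg Subtype.val hc).symm
  have hb : W.Both (g * y * g⁻¹ * y⁻¹) := by
    refine ⟨mul_mem (conj_mem_Q1 g hy) (inv_mem hy), q * ((⟨_, hym⟩ : C1) * q⁻¹ * (⟨_, hym⟩ : C1)⁻¹),
      mul_mem hq (conj_mem_Q1 _ (inv_mem hq)), ?_⟩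
    show (g : Spor.Co1) * y * (g : Spor.Co1)⁻¹ * (y : Spor.Co1)⁻¹ = W.t * ((q : Spor.Co1) *
      (W.t⁻¹ * y * W.t * (q : Spor.Co1)⁻¹ * (W.t⁻¹ * y * W.t)⁻¹)) * W.t⁻¹
    rw [hg]; group
  have hs : coord8 (g * y * g⁻¹) = coord8 (g * y * g⁻¹ * y⁻¹) + coord8 y := by
    rw [← coord8_mul hb.1 hy, inv_mul_cancel_right]
  rw [mv_rho2_coord8 g hy, hs]
  rcases W.both_coord hb with h | h <;> rw [h]
  · exact Or.inl (zero_add _)
  · exact Or.inr (add_comm _ _)

end Swap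

end Cfsg.Agent.Lib.Co1Local52
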