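import Cfsg.Agent.Lib.Co1Local52.Datum
import Cfsg.Agent.Lib.Co1Local52.Swap

/-!
Coded vectors, matrices given by columns, a criterion for cyclic elements and irreducibility of the
fixed space.
-/

set_option autoImplicit false

namespace Cfsg.Agent.Lib.Co1Local52

open Cfsg
open Cfsg.Agent.Lib.Co1Cent (V8 qf)
open scoped Matrix
open Fin.NatCast

/-- The matrix with the given coded columns. -/
def ofCols (cols : List ℕ) : Matrix (Fin 4 ⊕ Fin 4) (Fin 4 ⊕ Fin 4) (ZMod 2) :=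
  fun i j => if (cols.getD (Co1Cent.ix j : ℕ) 0).testBit (Co1Cent.ix i : ℕ) then 1 else 0

/-- The index of a coordinate of the fixed space. -/
def wi {m : ℕ} : (Fin m ⊕ Fin m) ⊕ Fin 2 → ℕ :=
  Sum.elim (Sum.elim (fun i => (i : ℕ)) fun i => m + (i : ℕ)) fun k => 2 * m + (k : ℕ)

/-- An embedding matrix from the codes of the images. -/
def embOf (m : ℕ) (W : List ℕ) :
    Matrix (Fin 4 ⊕ Fin 4) ((Fin m ⊕ Fin m) ⊕ Fin 2) (ZMod 2) :=
  fun i j => if (W.getD (wi j) 0).testBit (Co1Cent.ix i : ℕ) then 1 else 0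

/-- A projection matrix from coded columns. -/
def prjOf (m : ℕ) (P : List ℕ) :
    Matrix ((Fin m ⊕ Fin m) ⊕ Fin 2) (Fin 4 ⊕ Fin 4) (ZMod 2) :=
  fun i j => if (P.getD (Co1Cent.ix j : ℕ) 0).testBit (wi i) then 1 else 0

/-- A coded vector of the fixed space. -/
def decW (m a : ℕ) : (Fin m ⊕ Fin m) ⊕ Fin 2 → ZMod 2 := fun k => if a.testBit (wi k) then 1 else 0

theorem decW_xor (m a b : ℕ) : decW m (a ^^^ b) = decW m a + decW m b := by
  funext k
  simp only [decW, Pi.add_apply, Nat.testBit_xor]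
  cases a.testBit (wi k) <;> cases b.testBit (wi k) <;> rfl

theorem decW_zero (m : ℕ) : decW m 0 = 0 := by
  funext k
  simp [decW]

/-- The coded form of minus type. -/
def qb (m a : ℕ) : Bool :=
  (List.range m).foldl (fun s i => s ^^ (a.testBit i && a.testBit (m + i)))
    (a.testBit (2 * m) ^^ (a.testBit (2 * m) && a.testBit (2 * m + 1)) ^^ a.testBit (2 * m + 1))

/-- The coded polar form. -/
def pb (m a b : ℕ) : Bool := qb m (a ^^^ b) ^^ qb m a ^^ qb m b

/-- The good vectors for a coded vector. -/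
def goods (m w : ℕ) : List ℕ :=
  0 :: w :: (List.range (2 ^ (2 * m + 2))).filter fun v => qb m v && pb m w v

/-- The test of irreducibility. -/
def irrTest (m : ℕ) : Bool :=
  (List.range (2 ^ (2 * m + 2))).all fun w => Nat.beq w 0 ||
    (((List.range (2 ^ (2 * m + 2))).any fun v => qb m v && !(pb m w v)) &&
      (List.range (2 * m + 2)).all fun k => (goods m w).any fun a => (goods m w).any fun b =>
        (goods m w).any fun c => Nat.beq (a ^^^ b ^^^ c) (2 ^ k))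

theorem pol_self_smul {ι : Type} [Fintype ι] (f : (ι → ZMod 2) → ZMod 2) (h0 : f 0 = 0)
    (v : ι → ZMod 2) : pol f v v = 0 := by
  rw [pol, show v + v = 0 from funext fun _ => CharTwo.add_self_eq_zero _, h0, zero_add,
    CharTwo.add_self_eq_zero]

/-- Irreducibility from the test. -/
theorem irr_of {p m : ℕ} (D : Datum p m) (hi : (Cfsg.Omega (ZMod 2) (fW m)).index = 2)
    (hq : ∀ a, a < 2 ^ (2 * m + 2) → fW m (decW m a) = if qb m a then 1 else 0)
    (hcode : ∀ w : (Fin m ⊕ Fin m) ⊕ Fin 2 → ZMod 2, ∃ a, a < 2 ^ (2 * m + 2) ∧ decW m a = w)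
    (hbasis : ∀ j : (Fin m ⊕ Fin m) ⊕ Fin 2,
      wi j < 2 * m + 2 ∧ decW m (2 ^ wi j) = Pi.single j 1)
    (htest : irrTest m = true) (M : AddSubgroup ((Fin m ⊕ Fin m) ⊕ Fin 2 → ZMod 2))
    (hM : ∀ g ∈ Cfsg.Omega (ZMod 2) (fW m), ∀ w ∈ M, mv g w ∈ M) (hne : ∃ w ∈ M, w ≠ 0) :
    M = ⊤ := by
  obtain ⟨w, hwM, hw0⟩ := hne
  obtain ⟨a, ha, rfl⟩ := hcode w
  have ha0 : a ≠ 0 := fun e => hw0 (by rw [e, decW_zero])
  have hp : ∀ u v, u < 2 ^ (2 * m + 2) → v < 2 ^ (2 * m + 2) →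
      pol (fW m) (decW m u) (decW m v) = if pb m u v then 1 else 0 := by
    intro u v hu hv
    rw [pol, ← decW_xor, hq _ (Nat.xor_lt_two_pow hu hv), hq _ hu, hq _ hv, pb]
    cases qb m (u ^^^ v) <;> cases qb m u <;> cases qb m v <;> rfl
  have h := List.all_eq_true.mp htest a (List.mem_range.mpr ha)
  simp only [Bool.or_eq_true, Nat.beq_eq, ha0, false_or, Bool.and_eq_true, List.any_eq_true,
    List.all_eq_true, List.mem_range, Bool.not_eq_true'] at h
  obtain ⟨⟨u, hu, hu1, hu2⟩, hall⟩ := h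
  have hgood : ∀ v ∈ goods m a, decW m v ∈ M := by
    intro v hv
    rcases List.mem_cons.1 hv with rfl | hv
    · rw [decW_zero]; exact M.zero_mem
    rcases List.mem_cons.1 hv with rfl | hv
    · exact hwM
    rw [List.mem_filter, List.mem_range, Bool.and_eq_true] at hv
    obtain ⟨hv, hv1, hv2⟩ := hv
    have e1 : fW m (decW m v) = 1 := by rw [hq _ hv, hv1]; rfl
    have e2 : fW m (decW m u) = 1 := by rw [hq _ hu, hu1]; rfl
    obtain ⟨r, hr⟩ := exists_reflW m _ e1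
    obtain ⟨s, hs⟩ := exists_reflW m _ e2
    have hrs : r * s ∈ Cfsg.Omega (ZMod 2) (fW m) := D.mem_omega_of_ext hi (by
      rw [map_mul]; exact omega8_mul_mem (D.ext_refl_notMem e1 hr) (D.ext_refl_notMem e2 hs))
    have hsym : ∀ x y : (Fin m ⊕ Fin m) ⊕ Fin 2 → ZMod 2, pol (fW m) x y = pol (fW m) y x :=
      fun x y => by rw [pol, pol, add_comm x y]; ring
    have h3 := hM _ hrs _ hwM
    rw [mv_mul, hs, reflFun, hsym, hp _ _ ha hu, hu2] at h3
    simp only [Bool.false_eq_true, if_false, zero_smul, add_zero] at h3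
    rw [hr, reflFun, hsym, hp _ _ ha hv, hv2] at h3
    simp only [if_true, one_smul] at h3
    have := M.sub_mem h3 hwM
    rwa [add_sub_cancel_left] at this
  refine eq_top_iff.2 fun x _ => ?_
  rw [← Finset.univ_sum_single x]
  refine M.sum_mem fun j _ => ?_
  rcases zcases' (x j) with e | e <;> rw [e]
  · rw [Pi.single_zero]; exact M.zero_mem
  · obtain ⟨hj, hj'⟩ := hbasis j
    obtain ⟨b, hb, c, hc, d, hd, e'⟩ := hall _ hj
    rw [← hj', ← e', decW_xor, decW_xor]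
    exact M.add_mem (M.add_mem (hgood _ hb) (hgood _ hc)) (hgood _ hd)
where
  zcases' : ∀ a : ZMod 2, a = 0 ∨ a = 1 := by decide

/-- The criterion for the centraliser of a cyclic element. -/
theorem cyclic_of {m n : ℕ} [NeZero n] (σ : Cfsg.isometryGroup (ZMod 2) f8)
    (emb : Matrix (Fin 4 ⊕ Fin 4) ((Fin m ⊕ Fin m) ⊕ Fin 2) (ZMod 2))
    (prj : Matrix ((Fin m ⊕ Fin m) ⊕ Fin 2) (Fin 4 ⊕ Fin 4) (ZMod 2))
    (its : Fin n → V8) (hstep : ∀ k, mv σ (its k) = its (k + 1))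
    (hfix : ∀ w, mv σ (emb *ᵥ w) = emb *ᵥ w)
    (hperp : ∀ j, pol f8 (emb *ᵥ Pi.single j 1) (its 0) = 0) (hu : f8 (its 0) = 1)
    (hcand : ∀ y, f8 y = 1 → (∀ j, pol f8 (emb *ᵥ Pi.single j 1) y = 0) →
      pol f8 y (mv σ y) = pol f8 (its 0) (its 1) →
      pol f8 y (mv σ (mv σ y)) = pol f8 (its 0) (its (1 + 1)) → ∃ i, y = its i)
    (hspan : ∀ v : V8, ∃ b : Fin n → ZMod 2, v + emb *ᵥ (prj *ᵥ v) = ∑ k, b k • its k)
    (g : Cfsg.isometryGroup (ZMod 2) f8) (hg : Commute g σ)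
    (hw : ∀ w, mv g (emb *ᵥ w) = emb *ᵥ w) : g ∈ Subgroup.zpowers σ := by
  have hcs : ∀ v, mv g (mv σ v) = mv σ (mv g v) := fun v => by rw [← mv_mul, hg.eq, mv_mul]
  have hs1 : mv σ (its 0) = its 1 := by rw [hstep, zero_add]
  obtain ⟨i, hi⟩ := hcand (mv g (its 0)) (by rw [mv_form (f := f8), hu])
    (fun j => by rw [← hw, pol_mv, hperp])
    (by rw [← hcs, pol_mv, hs1])
    (by rw [← hcs, ← hcs, pol_mv, hs1, hstep])
  have hpow : ∀ k : ℕ, mv (σ ^ k) (its 0) = its (k : Fin n) := by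
    intro k
    induction k with
    | zero => rw [pow_zero, mv_one, Nat.cast_zero]
    | succ k ih => rw [pow_succ', mv_mul, ih, hstep, Nat.cast_add, Nat.cast_one]
  set h := (σ ^ (i : ℕ))⁻¹ * g with hh
  have hσfix : ∀ (k : ℕ) w, mv (σ ^ k) (emb *ᵥ w) = emb *ᵥ w := by
    intro k w
    induction k with
    | zero => rw [pow_zero, mv_one]
    | succ k ih => rw [pow_succ', mv_mul, ih, hfix]
  have h0 : mv h (its 0) = its 0 := by
    rw [hh, mv_mul, hi]
    conv_lhs => arg 2; rw [← Fin.cast_val_eq_self i, ← hpow]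
    exact mv_inv _ _
  have hcomm : Commute h σ := (((Commute.refl σ).pow_left _).inv_left).mul_left hg
  have hall : ∀ k, mv h (its k) = its k := by
    intro k
    have hc : Commute h (σ ^ (k : ℕ)) := hcomm.pow_right _
    conv_lhs => rw [← Fin.cast_val_eq_self k, ← hpow, ← mv_mul, hc.eq, mv_mul, h0, hpow,
      Fin.cast_val_eq_self]
  have hwh : ∀ w, mv h (emb *ᵥ w) = emb *ᵥ w := fun w => by
    rw [hh, mv_mul, hw]
    conv_lhs => arg 2; rw [← hσfix (i : ℕ) w]
    exact mv_inv _ _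
  have h1 : h = 1 := by
    refine iso_ext fun v => ?_
    obtain ⟨b, hb⟩ := hspan v
    have e : v = emb *ᵥ (prj *ᵥ v) + ∑ k, b k • its k := by
      rw [← hb]
      calc v = v + (emb *ᵥ (prj *ᵥ v) + emb *ᵥ (prj *ᵥ v)) := by
            rw [Co1Cent.two_vanish, add_zero]
        _ = _ := by abel
    rw [mv_one]
    conv_rhs => rw [e]
    conv_lhs => rw [e]
    rw [mv_add, hwh]
    congr 1
    show (_ : Matrix _ _ (ZMod 2)) *ᵥ (∑ k, b k • its k) = _
    rw [Matrix.mulVec_sum]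
    refine Finset.sum_congr rfl fun k _ => ?_
    rw [Matrix.mulVec_smul]
    exact congrArg (b k • ·) (hall k)
  have : g = σ ^ (i : ℕ) := (inv_mul_eq_one.1 h1).symm
  rw [this]
  exact pow_mem (Subgroup.mem_zpowers σ) _

end Cfsg.Agent.Lib.Co1Local52
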