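import Cfsg.Agent.Lib.Co1Cent.Main

/-!
Coordinates on the kernel of the action of the smaller centraliser, modulo its centre: the
squaring map becomes the hyperbolic quadratic form in dimension eight.
-/

set_option autoImplicit false

namespace Cfsg.Agent.Lib.Co1Local52

open Cfsg Cfsg.Agent.Lib.Leech Cfsg.Agent.Lib.Co2Cent Cfsg.Agent.Lib.Golay
open Cfsg.Agent.Lib.SporStruct Cfsg.Agent.Lib.SporStruct.Masks
open Cfsg.Agent.Lib.Co1Cent (V8 qf)
open scoped Pointwise symmDiff

/-- The base point off the octad. -/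
abbrev p0 : GolayPt := basePt7

/-- Four further points. -/
def pp : Fin 4 → GolayPt := ![some 8, some 9, some 10, some 11]

/-- Codes of four code sets dual to the four points. -/
def tk : Fin 4 → ℕ := ![256, 640, 1088, 2240]

/-- Four code sets dual to the four points. -/
def tt4 (i : Fin 4) : Finset GolayPt := setOfMask (enc (tk i))

theorem tk_lt : ∀ i, tk i < 4096 := by decide +kernel

theorem tk_and : ∀ i, enc (tk i) &&& 8536111 = 0 := by decide +kernel

theorem tt4_off (i : Fin 4) : Off (tt4 i) := (off_iff (tk_lt i)).2 (tk_and i)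

theorem pp_notMem : ∀ i, pp i ∉ oct := by decide +kernel

theorem p0_notMem_tt4 : ∀ i, p0 ∉ tt4 i := by decide +kernel

theorem pp_mem_tt4 : ∀ i j, (pp j ∈ tt4 i ↔ i = j) := by decide +kernel

/-- The indicator of a set. -/
def ind (s : Finset GolayPt) (p : GolayPt) : ZMod 2 := if p ∈ s then 1 else 0

theorem ind_symmDiff (s t : Finset GolayPt) (p : GolayPt) : ind (s ∆ t) p = ind s p + ind t p := by
  by_cases h1 : p ∈ s <;> by_cases h2 : p ∈ t <;> simp [ind, Finset.mem_symmDiff, h1, h2] <;>
    decide

/-- The coordinates of a parameter. -/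
noncomputable def coordP (p : octadFix oct × {s : Finset GolayPt // Off s}) : V8 :=
  Sum.elim (fun i => ind (tt4 i) ((p.1 : Equiv.Perm GolayPt) p0))
    (fun i => ind p.2.1 p0 + ind p.2.1 (pp i))

/-- The coordinates on the kernel. -/
noncomputable def coordK (k : rho.ker) : V8 :=
  coordP ((Equiv.ofBijective kerMap kerMap_bijective).symm k)

theorem coordK_kerMap (p : octadFix oct × {s : Finset GolayPt // Off s}) :
    coordK (kerMap p) = coordP p := by
  rw [coordK, Equiv.ofBijective_symm_apply_apply]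

theorem fix_oct (σ : octadFix oct) {p : GolayPt} (hp : p ∈ oct) :
    (σ : Equiv.Perm GolayPt) p = p := (mem_octadFix.1 σ.2).2 p hp

theorem fix_notMem (σ : octadFix oct) {p : GolayPt} (hp : p ∉ oct) :
    (σ : Equiv.Perm GolayPt) p ∉ oct := fun h =>
  hp ((Co1Cent.stab_of_fix (mem_octadFix.1 σ.2).2 p).1 h)

theorem mem_smul_iff (σ : Equiv.Perm GolayPt) (s : Finset GolayPt) (p : GolayPt) :
    σ p ∈ σ • s ↔ p ∈ s := by
  rw [← Equiv.Perm.smul_def]; exact Finset.smul_mem_smul_finset_iff σ

theorem ind_compl {p : GolayPt} (hp : p ∉ oct) : ind octᶜ p = 1 :=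
  if_pos (Finset.mem_compl.2 hp)

/-- Moving a code set adds a constant off the octad. -/
theorem ind_smul (σ : octadFix oct) {s : Finset GolayPt} (hs : Off s) {p : GolayPt} (hp : p ∉ oct) :
    ind ((σ : Equiv.Perm GolayPt) • s) p =
      ind s p + (ind s p0 + ind s ((σ : Equiv.Perm GolayPt) p0)) := by
  have h0 : ind ((σ : Equiv.Perm GolayPt) • s) ((σ : Equiv.Perm GolayPt) p0) = ind s p0 :=
    if_congr (mem_smul_iff _ s p0) rfl rfl
  rcases smul_off σ.2 hs with h | h
  · rw [h] at h0 ⊢
    rw [h0, CharTwo.add_self_eq_zero, add_zero]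
  · rw [h, ind_symmDiff, ind_compl (fix_notMem σ basePt7_notMem)] at h0
    rw [h, ind_symmDiff, ind_compl hp, ← h0]
    generalize ind s p = a
    generalize ind s ((σ : Equiv.Perm GolayPt) p0) = b
    revert a b; decide

theorem coordP_mul (a b : octadFix oct × {s : Finset GolayPt // Off s}) :
    coordP (a.1 * b.1, ⟨a.2.1 ∆ ((a.1 : Equiv.Perm GolayPt) • b.2.1),
        off_symmDiff a.2.2 (off_smul a.1.2 b.2.2)⟩) = coordP a + coordP b := by
  funext k
  rcases k with i | i
  · simp only [coordP, Pi.add_apply, Sum.elim_inl, Subgroup.coe_mul, Equiv.Perm.mul_apply]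
    have hq : (b.1 : Equiv.Perm GolayPt) p0 ∉ oct := fix_notMem b.1 basePt7_notMem
    have h := ind_smul a.1 (tt4_off i) (fix_notMem a.1 hq)
    have h2 : ind ((a.1 : Equiv.Perm GolayPt) • tt4 i)
        ((a.1 : Equiv.Perm GolayPt) ((b.1 : Equiv.Perm GolayPt) p0)) =
        ind (tt4 i) ((b.1 : Equiv.Perm GolayPt) p0) := if_congr (mem_smul_iff _ _ _) rfl rfl
    have h3 : ind (tt4 i) p0 = 0 := if_neg (p0_notMem_tt4 i)
    rw [h2, h3] at h
    revert h
    generalize ind (tt4 i) ((a.1 : Equiv.Perm GolayPt) ((b.1 : Equiv.Perm GolayPt) p0)) = x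
    generalize ind (tt4 i) ((a.1 : Equiv.Perm GolayPt) p0) = y
    generalize ind (tt4 i) ((b.1 : Equiv.Perm GolayPt) p0) = z
    revert x y z; decide
  · simp only [coordP, Pi.add_apply, Sum.elim_inr, ind_symmDiff]
    rw [ind_smul a.1 b.2.2 basePt7_notMem, ind_smul a.1 b.2.2 (pp_notMem i)]
    generalize ind b.2.1 p0 + ind b.2.1 ((a.1 : Equiv.Perm GolayPt) p0) = d
    generalize ind a.2.1 p0 = x
    generalize ind a.2.1 (pp i) = y
    generalize ind b.2.1 p0 = z
    generalize ind b.2.1 (pp i) = w
    revert d x y z w; decide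

theorem coordK_mul (k l : rho.ker) : coordK (k * l) = coordK k + coordK l := by
  obtain ⟨a, rfl⟩ := kerMap_bijective.2 k
  obtain ⟨b, rfl⟩ := kerMap_bijective.2 l
  rw [kerMap_mul, coordK_kerMap, coordK_kerMap, coordK_kerMap, coordP_mul]

theorem coordK_one : coordK 1 = 0 := by
  have h := coordK_mul 1 1
  rw [one_mul] at h
  exact left_eq_add.1 h

theorem coordK_zz : coordK zz = 0 := by
  rw [zz, coordK_kerMap]
  funext k
  rcases k with i | i
  · exact if_neg (p0_notMem_tt4 i)
  · show ind octᶜ p0 + ind octᶜ (pp i) = 0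
    rw [ind_compl basePt7_notMem, ind_compl (pp_notMem i)]
    rfl

/-- The generators over the coordinate vectors. -/
theorem exists_coordK_single (j : Fin 4 ⊕ Fin 4) : ∃ k : rho.ker, coordK k = Pi.single j 1 := by
  rcases j with i | i
  · obtain ⟨σ, hσ, h⟩ := OctadStab.exists_fix_move baseOctad_mem basePt7_notMem (pp_notMem i)
    refine ⟨kerMap (⟨σ, hσ⟩, ⟨∅, off_empty⟩), ?_⟩
    rw [coordK_kerMap]
    funext k
    rcases k with l | l
    · show ind (tt4 l) (σ p0) = _
      rw [show σ p0 = pp i from h, ind, if_congr (pp_mem_tt4 l i) rfl rfl]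
      by_cases e : l = i <;> simp [e, Pi.single_apply]
    · simp [coordP, ind]
  · refine ⟨kerMap (1, ⟨tt4 i, tt4_off i⟩), ?_⟩
    rw [coordK_kerMap]
    funext k
    rcases k with l | l
    · show ind (tt4 l) p0 = _
      rw [ind, if_neg (p0_notMem_tt4 l)]
      simp [Pi.single_apply]
    · show ind (tt4 i) p0 + ind (tt4 i) (pp l) = _
      rw [ind, ind, if_neg (p0_notMem_tt4 i), if_congr (pp_mem_tt4 i l) rfl rfl]
      by_cases e : i = l
      · simp [e]
      · simp [e, Ne.symm e]

theorem coordK_surjective : Function.Surjective coordK := by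
  intro c
  have key : ∀ s : Finset (Fin 4 ⊕ Fin 4), ∃ k : rho.ker,
      coordK k = ∑ j ∈ s, Pi.single j (c j) := by
    intro s
    induction s using Finset.induction_on with
    | empty => exact ⟨1, by rw [coordK_one, Finset.sum_empty]⟩
    | insert j s hj ih =>
      obtain ⟨k, hk⟩ := ih
      obtain ⟨l, hl⟩ := exists_coordK_single j
      rw [Finset.sum_insert hj]
      rcases (show c j = 0 ∨ c j = 1 from by generalize c j = x; revert x; decide) with h | h
      · exact ⟨k, by rw [h, Pi.single_zero, zero_add, hk]⟩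
      · exact ⟨l * k, by rw [h, coordK_mul, hl, hk]⟩
  obtain ⟨k, hk⟩ := key Finset.univ
  exact ⟨k, hk.trans (Finset.univ_sum_single c)⟩

/-- The homomorphism of coordinates. -/
noncomputable def coordHom : rho.ker →* Multiplicative V8 where
  toFun k := Multiplicative.ofAdd (coordK k)
  map_one' := by rw [coordK_one]; rfl
  map_mul' k l := by rw [coordK_mul]; rfl

theorem coordK_eq_zero (k : rho.ker) : coordK k = 0 ↔ k = 1 ∨ k = zz := by
  have := finite_ker
  refine ⟨fun h => ?_, ?_⟩
  · have hs : Function.Surjective coordHom := fun c => by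
      obtain ⟨k, hk⟩ := coordK_surjective (Multiplicative.toAdd c)
      exact ⟨k, congrArg Multiplicative.ofAdd hk⟩
    have h1 := Subgroup.card_mul_index coordHom.ker
    rw [Subgroup.index_ker, MonoidHom.range_eq_top.2 hs, Subgroup.card_top, card_ker,
      Nat.card_congr Multiplicative.toAdd] at h1
    have h8 : Nat.card V8 = 256 := by simp
    rw [h8] at h1
    have hz : zz ∈ coordHom.ker := congrArg Multiplicative.ofAdd coordK_zz
    have hle : Subgroup.center rho.ker ≤ coordHom.ker := fun x hx => by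
      rcases (center_ker x).1 hx with rfl | rfl
      · exact one_mem _
      · exact hz
    have heq := Subgroup.eq_of_le_of_card_ge hle (by rw [card_center_ker]; omega)
    have hk : k ∈ coordHom.ker := congrArg Multiplicative.ofAdd h
    rw [← heq] at hk
    exact (center_ker k).1 hk
  · rintro (rfl | rfl)
    · exact coordK_one
    · exact coordK_zz

theorem form_test : ((List.range 4096).all fun k => !(Nat.beq (enc k &&& 8536111) 0) ||
    (List.range 24).all fun q => (8536111 : ℕ).testBit q ||
      ((((enc k).testBit q) ^^ ((enc k).testBit 4)) ==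
        ((((enc (tk 0)).testBit q) && (((enc k).testBit 4) ^^ ((enc k).testBit 8))) ^^
          ((((enc (tk 1)).testBit q) && (((enc k).testBit 4) ^^ ((enc k).testBit 9))) ^^
            ((((enc (tk 2)).testBit q) && (((enc k).testBit 4) ^^ ((enc k).testBit 10))) ^^
              (((enc (tk 3)).testBit q) && (((enc k).testBit 4) ^^ ((enc k).testBit 11)))))))) =
      true := by
  decide +kernel

theorem ind_mask (m : ℕ) (p : GolayPt) :
    ind (setOfMask m) p = if m.testBit (idx p) then 1 else 0 :=
  if_congr mem_setOfMask rfl rfl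

theorem sq_formula {s : Finset GolayPt} (hs : Off s) {q : GolayPt} (hq : q ∉ oct) :
    ind s q + ind s p0 = ∑ i, ind (tt4 i) q * (ind s p0 + ind s (pp i)) := by
  obtain ⟨k, hk, rfl⟩ := exists_mask hs.1
  have h := List.all_eq_true.mp form_test k (List.mem_range.mpr hk)
  simp only [(off_iff hk).1 hs, Nat.beq_refl, Bool.not_true, Bool.false_or] at h
  have h2 := List.all_eq_true.mp h (idx q) (List.mem_range.mpr (idx_lt q))
  have hb : (8536111 : ℕ).testBit (idx q) = false := by
    rw [← Bool.not_eq_true]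
    exact fun e => hq (mem_setOfMask.2 e)
  rw [hb, Bool.false_or, beq_iff_eq] at h2
  have i0 : idx p0 = 4 := by decide +kernel
  have j0 : idx (pp 0) = 8 := by decide +kernel
  have j1 : idx (pp 1) = 9 := by decide +kernel
  have j2 : idx (pp 2) = 10 := by decide +kernel
  have j3 : idx (pp 3) = 11 := by decide +kernel
  simp only [tt4, Fin.sum_univ_four, ind_mask, i0, j0, j1, j2, j3]
  revert h2
  generalize (enc k).testBit (idx q) = a
  generalize (enc k).testBit 4 = b
  generalize (enc k).testBit 8 = c0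
  generalize (enc k).testBit 9 = c1
  generalize (enc k).testBit 10 = c2
  generalize (enc k).testBit 11 = c3
  generalize (enc (tk 0)).testBit (idx q) = d0
  generalize (enc (tk 1)).testBit (idx q) = d1
  generalize (enc (tk 2)).testBit (idx q) = d2
  generalize (enc (tk 3)).testBit (idx q) = d3
  revert a b c0 c1 c2 c3 d0 d1 d2 d3
  decide +kernel

theorem sq_coordK (k : rho.ker) : k * k = if qf (coordK k) = 0 then 1 else zz := by
  obtain ⟨⟨σ, s, hs⟩, rfl⟩ := kerMap_bijective.2 k
  have hq : qf (coordK (kerMap (σ, ⟨s, hs⟩))) =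
      ind s ((σ : Equiv.Perm GolayPt) p0) + ind s p0 := by
    rw [coordK_kerMap, sq_formula hs (fix_notMem σ basePt7_notMem)]
    rfl
  have hσ : σ * σ = 1 := Subtype.ext ((octadFix_spec baseOctad_mem).2 σ.1 σ.2)
  have h0 : ind ((σ : Equiv.Perm GolayPt) • s) ((σ : Equiv.Perm GolayPt) p0) = ind s p0 :=
    if_congr (mem_smul_iff _ s p0) rfl rfl
  rw [kerMap_mul, hq, one_eq, zz]
  rcases smul_off σ.2 hs with h | h
  · rw [h] at h0
    rw [if_pos (by rw [h0, CharTwo.add_self_eq_zero])]
    exact congrArg kerMap (Prod.ext hσ (Subtype.ext (by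
      show s ∆ _ = ∅
      rw [h, symmDiff_self]; rfl)))
  · rw [h, ind_symmDiff, ind_compl (fix_notMem σ basePt7_notMem)] at h0
    rw [if_neg]
    · exact congrArg kerMap (Prod.ext hσ (Subtype.ext (by
        show s ∆ _ = octᶜ
        rw [h, symmDiff_symmDiff_cancel_left])))
    · rw [← h0]
      generalize ind s ((σ : Equiv.Perm GolayPt) p0) = b
      revert b; decide

end Cfsg.Agent.Lib.Co1Local52
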