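import Cfsg.Agent.Lib.Co1Local52.Swap

/-!
The stabiliser of the base singular vector in the commutator subgroup and its Sylow subgroups.
-/

set_option autoImplicit false

namespace Cfsg.Agent.Lib.Co1Local52

open Cfsg
open Cfsg.Agent.Lib.Co1Cent (V8 qf)

/-- The action of the commutator subgroup on vectors. -/
noncomputable instance omegaAction : MulAction (Cfsg.Omega (ZMod 2) qf) V8 where
  smul g v := mv (g : Cfsg.isometryGroup (ZMod 2) qf) v
  one_smul v := mv_one v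
  mul_smul g h v := mv_mul _ _ v

theorem smul_def' (g : Cfsg.Omega (ZMod 2) qf) (v : V8) :
    g • v = mv (g : Cfsg.isometryGroup (ZMod 2) qf) v := rfl

theorem finite_iso8 : Finite (Cfsg.isometryGroup (ZMod 2) qf) :=
  Nat.finite_of_card_ne_zero (by rw [Co1Cent.card_isometry]; norm_num)

theorem orbit_w0 : MulAction.orbit (Cfsg.Omega (ZMod 2) qf) w0 = {c : V8 | c ≠ 0 ∧ qf c = 0} := by
  ext c
  constructor
  · rintro ⟨g, rfl⟩
    refine ⟨fun e => w0_good.1 (mv_injective (g : Cfsg.isometryGroup (ZMod 2) qf) ?_), ?_⟩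
    · rw [mv_zero]; exact e
    · show qf (mv (g : Cfsg.isometryGroup (ZMod 2) qf) w0) = 0
      rw [mv_form (f := qf)]; exact w0_good.2
  · rintro ⟨h1, h2⟩
    obtain ⟨g, hg, e⟩ := omega_transitive w0_good.1 w0_good.2 h1 h2
    exact ⟨⟨g, hg⟩, e⟩

theorem card_stab8 :
    Nat.card (MulAction.stabilizer (Cfsg.Omega (ZMod 2) qf) w0) = 1290240 := by
  have h := Subgroup.card_mul_index (MulAction.stabilizer (Cfsg.Omega (ZMod 2) qf) w0)
  rw [MulAction.index_stabilizer, Co1Cent.card_omega] at h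
  have h2 : ({c : V8 | c ≠ 0 ∧ qf c = 0}).ncard = 135 := by
    rw [← Co1Cent.count_singular, ← Set.ncard_coe_finset]
    congr 1
    ext c
    simp
  have h3 : (MulAction.orbit (Cfsg.Omega (ZMod 2) qf) w0).ncard = 135 :=
    (congrArg Set.ncard orbit_w0).trans h2
  have h4 : Nat.card (MulAction.stabilizer (Cfsg.Omega (ZMod 2) qf) w0) * 135 = 174182400 := by
    rw [← h3]
    exact h
  omega

/-- Conjugation of an element of order `p` fixing the base vector into a given Sylow subgroup. -/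
theorem exists_conj_into {p : ℕ} (hp : p.Prime) (P : Subgroup (Cfsg.isometryGroup (ZMod 2) qf))
    (hP : P ≤ Cfsg.Omega (ZMod 2) qf) (hfix : ∀ g ∈ P, mv g w0 = w0)
    (hcard : Nat.card P = p ^ (1290240 : ℕ).factorization p)
    {g : Cfsg.isometryGroup (ZMod 2) qf} (hg : g ∈ Cfsg.Omega (ZMod 2) qf) (hgp : g ^ p = 1)
    (hgw : mv g w0 = w0) :
    ∃ h : Cfsg.isometryGroup (ZMod 2) qf, mv h w0 = w0 ∧ h * g * h⁻¹ ∈ P := by
  have := Fact.mk hp
  have := finite_iso8
  set T := MulAction.stabilizer (Cfsg.Omega (ZMod 2) qf) w0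
  let P' : Subgroup T := (P.comap (Cfsg.Omega (ZMod 2) qf).subtype).comap T.subtype
  have e1 : Nat.card P' = Nat.card P :=
    Nat.card_congr ⟨fun x => ⟨((x.1 : Cfsg.Omega (ZMod 2) qf) : Cfsg.isometryGroup (ZMod 2) qf), x.2⟩,
      fun x => ⟨⟨⟨x.1, hP x.2⟩, hfix _ x.2⟩, x.2⟩, fun _ => rfl, fun _ => rfl⟩
  let S : Sylow p T := Sylow.ofCard P' (by rw [e1, hcard, card_stab8])
  let g' : T := ⟨⟨g, hg⟩, hgw⟩
  have hpg : IsPGroup p (Subgroup.zpowers g') := by
    refine fun x => ⟨1, ?_⟩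
    obtain ⟨i, hi⟩ := Subgroup.mem_zpowers_iff.1 x.2
    refine Subtype.ext ?_
    rw [SubgroupClass.coe_pow, ← hi, pow_one, ← zpow_natCast, ← zpow_mul, mul_comm, zpow_mul,
      zpow_natCast, show g' ^ p = 1 from Subtype.ext (Subtype.ext hgp), one_zpow]
    rfl
  obtain ⟨S', hS'⟩ := hpg.exists_le_sylow
  obtain ⟨h, hh⟩ := MulAction.exists_smul_eq T S' S
  refine ⟨((h : Cfsg.Omega (ZMod 2) qf) : Cfsg.isometryGroup (ZMod 2) qf), h.2, ?_⟩
  have hmem : h * g' * h⁻¹ ∈ (S : Subgroup T) := by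
    rw [← hh, Sylow.coe_subgroup_smul]
    exact ⟨g', hS' (Subgroup.mem_zpowers g'), rfl⟩
  exact hmem

end Cfsg.Agent.Lib.Co1Local52
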