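import Cfsg.Agent.Lib.Co1Local52.Codes
import Cfsg.Agent.Lib.Co1Local52.Fusion
import Cfsg.Agent.Lib.Co1Local52.Stab
import Cfsg.Agent.Lib.HallJanko.Omega
import Cfsg.Agent.Lib.Linear.Simple

/-!
An element of order five with a four-dimensional fixed space of minus type.
-/

set_option autoImplicit false

namespace Cfsg.Agent.Lib.Co1Local52.Five

open Cfsg
open Cfsg.Agent.Lib.Co1Cent (V8 qf)
open scoped Matrix

/-- The matrix of the element. -/
def M : Matrix (Fin 4 ⊕ Fin 4) (Fin 4 ⊕ Fin 4) (ZMod 2) := ofCols [55, 48, 103, 8, 20, 18, 4, 128]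

/-- The inverse. -/
def M' : Matrix (Fin 4 ⊕ Fin 4) (Fin 4 ⊕ Fin 4) (ZMod 2) := ofCols [51, 112, 64, 8, 80, 82, 85, 128]

/-- A matrix conjugating the element to its square. -/
def T : Matrix (Fin 4 ⊕ Fin 4) (Fin 4 ⊕ Fin 4) (ZMod 2) :=
  ofCols [115, 33, 64, 8, 65, 3, 118, 128]

/-- The inverse. -/
def T' : Matrix (Fin 4 ⊕ Fin 4) (Fin 4 ⊕ Fin 4) (ZMod 2) :=
  ofCols [20, 52, 85, 8, 51, 22, 4, 128]

theorem M_inv : M * M' = 1 ∧ M' * M = 1 := by decide +kernel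

theorem T_inv : T * T' = 1 ∧ T' * T = 1 := by decide +kernel

theorem M_form : ∀ v : V8, qf (M *ᵥ v) = qf v := by decide +kernel

theorem T_form : ∀ v : V8, qf (T *ᵥ v) = qf v := by decide +kernel

/-- The element. -/
def σ : Cfsg.isometryGroup (ZMod 2) f8 := mkIso M M' M_inv.1 M_inv.2 M_form

/-- The conjugating element. -/
def τ : Cfsg.isometryGroup (ZMod 2) f8 := mkIso T T' T_inv.1 T_inv.2 T_form

theorem five_test : ∀ v : V8, M *ᵥ (M *ᵥ (M *ᵥ (M *ᵥ (M *ᵥ v)))) = v := by decide +kernel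

theorem conj_test : ∀ v : V8, T *ᵥ (M *ᵥ v) = M *ᵥ (M *ᵥ (T *ᵥ v)) := by decide +kernel

theorem σ_pow : σ ^ 5 = 1 := by
  refine iso_ext fun v => ?_
  simp only [pow_succ, pow_zero, one_mul, mv_mul, mv_one]
  exact five_test v

theorem τ_conj : τ * σ * τ⁻¹ = σ ^ 2 := by
  rw [mul_inv_eq_iff_eq_mul]
  refine iso_ext fun v => ?_
  simp only [pow_succ, pow_zero, one_mul, mv_mul]
  exact conj_test v

/-- The embedding. -/
def E : Matrix (Fin 4 ⊕ Fin 4) ((Fin 1 ⊕ Fin 1) ⊕ Fin 2) (ZMod 2) := embOf 1 [8, 128, 34, 19]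

/-- The projection. -/
def P : Matrix ((Fin 1 ⊕ Fin 1) ⊕ Fin 2) (Fin 4 ⊕ Fin 4) (ZMod 2) :=
  prjOf 1 [4, 8, 0, 1, 4, 12, 0, 2]

theorem P_E : ∀ w, P *ᵥ (E *ᵥ w) = w := by decide +kernel

theorem M_E : ∀ w, M *ᵥ (E *ᵥ w) = E *ᵥ w := by decide +kernel

theorem P_M : ∀ v : V8, P *ᵥ (M *ᵥ v) = P *ᵥ v := by decide +kernel

theorem M_fixed : ∀ v : V8, M *ᵥ v = v → E *ᵥ (P *ᵥ v) = v := by decide +kernel

theorem split_test : ∀ v : V8, qf v = fW 1 (P *ᵥ v) + qf (v + E *ᵥ (P *ᵥ v)) := by decide +kernel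

/-- The iterates of the cyclic vector. -/
def its : Fin 5 → V8 := fun k => Co1Cent.dec (([17, 35, 21, 68, 99] : List ℕ).getD (k : ℕ) 0)

theorem its_step : ∀ k, M *ᵥ its k = its (k + 1) := by decide +kernel

theorem perp_test : (∀ j, pol f8 (E *ᵥ Pi.single j 1) (its 0) = 0) ∧ f8 (its 0) = 1 := by
  decide +kernel

theorem cand_test : ∀ y : V8, f8 y = 1 → (∀ j, pol f8 (E *ᵥ Pi.single j 1) y = 0) →
    pol f8 y (M *ᵥ y) = pol f8 (its 0) (its 1) →
    pol f8 y (M *ᵥ (M *ᵥ y)) = pol f8 (its 0) (its (1 + 1)) → ∃ i, y = its i := by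
  decide +kernel

theorem span_test : ∀ v : V8, ∃ b : Fin 5 → ZMod 2, v + E *ᵥ (P *ᵥ v) = ∑ k, b k • its k := by
  decide +kernel

/-- The datum. -/
def D : Datum 5 1 where
  prime := by norm_num
  odd := by decide
  mod_eq := by norm_num
  σ := σ
  pow_eq := σ_pow
  ne_one h := by
    have h' : M *ᵥ its 0 = its 0 :=
      (congrArg (fun g : Cfsg.isometryGroup (ZMod 2) f8 => mv g (its 0)) h).trans (mv_one _)
    revert h'
    decide +kernel
  emb := E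
  prj := P
  prj_emb := P_E
  fix_emb := M_E
  prj_fix := P_M
  fixed := M_fixed
  split := split_test
  cyclic := cyclic_of σ E P its its_step M_E perp_test.1 perp_test.2 cand_test span_test

theorem emb_w0 : E *ᵥ decW 1 1 = w0 := by decide +kernel

theorem card_iso : Nat.card (Cfsg.isometryGroup (ZMod 2) (fW 1)) = 120 := by
  have h := OrthStd.card_orth_minus (F := ZMod 2) (q := 2) (ZMod.card 2) 2 (by norm_num)
    (a := 1) (b := 1) (by decide +kernel)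
  simpa using h

theorem index_W : (Cfsg.Omega (ZMod 2) (fW 1)).index = 2 := by
  have h := Subgroup.card_mul_index (Cfsg.Omega (ZMod 2) (fW 1))
  rw [HallJanko.OmegaFour.card_omega, card_iso] at h
  omega

theorem simple_nonab : IsSimpleGroup (Cfsg.Omega (ZMod 2) (fW 1)) ∧
    ∃ u v : Cfsg.Omega (ZMod 2) (fW 1), u * v ≠ v * u := by
  have : Fintype (GaloisField 2 2) := Fintype.ofFinite _
  obtain ⟨e⟩ := Cfsg.Agent.S0300.result (F := ZMod 2) (K := GaloisField 2 2) (q := 2) (ZMod.card 2)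
    (by rw [← Nat.card_eq_fintype_card, GaloisField.card 2 2 two_ne_zero]) 1 1 (by decide +kernel)
  have hc : Nat.card (GaloisField 2 2) = 4 := by rw [GaloisField.card 2 2 two_ne_zero]; rfl
  have hs := Linear.isSimpleGroup_PSL (F := GaloisField 2 2) (n := 2) le_rfl (fun _ => hc.ge)
  have hsP : IsSimpleGroup (Cfsg.POmega (ZMod 2) (fW 1)) := e.isSimpleGroup
  have hP : Nat.card (Cfsg.POmega (ZMod 2) (fW 1)) = 60 := by
    rw [Nat.card_congr e.toEquiv, Linear.card_PSL_two_of_even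
      (by rw [← Nat.card_eq_fintype_card, hc]; decide), ← Nat.card_eq_fintype_card, hc]
  have : Finite (Cfsg.Omega (ZMod 2) (fW 1)) :=
    Nat.finite_of_card_ne_zero (by rw [HallJanko.OmegaFour.card_omega]; norm_num)
  have hb : Function.Bijective
      (QuotientGroup.mk' (Subgroup.center (Cfsg.Omega (ZMod 2) (fW 1)))) :=
    (Nat.bijective_iff_surjective_and_card _).2
      ⟨QuotientGroup.mk'_surjective _, by rw [HallJanko.OmegaFour.card_omega]; exact hP.symm⟩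
  have hS := (MulEquiv.ofBijective _ hb).isSimpleGroup
  refine ⟨hS, ?_⟩
  by_contra hcon
  push Not at hcon
  let _ : CommGroup (Cfsg.Omega (ZMod 2) (fW 1)) :=
    { (inferInstance : Group (Cfsg.Omega (ZMod 2) (fW 1))) with mul_comm := hcon }
  have h60 := IsSimpleGroup.prime_card (α := Cfsg.Omega (ZMod 2) (fW 1))
  rw [HallJanko.OmegaFour.card_omega] at h60
  norm_num at h60

theorem irr : ∀ M : AddSubgroup ((Fin 1 ⊕ Fin 1) ⊕ Fin 2 → ZMod 2),
    (∀ g ∈ Cfsg.Omega (ZMod 2) (fW 1), ∀ w ∈ M, mv g w ∈ M) → (∃ w ∈ M, w ≠ 0) → M = ⊤ :=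
  irr_of D index_W (by decide +kernel) (by decide +kernel) (by decide +kernel) (by decide +kernel)

theorem w0_fix : M *ᵥ w0 = w0 := by decide +kernel

theorem fusion : ∀ g ∈ Cfsg.Omega (ZMod 2) qf, g ^ 5 = 1 → g ≠ 1 → mv g w0 = w0 → RadPart 1 g →
    ∃ t : Cfsg.isometryGroup (ZMod 2) qf, t * g * t⁻¹ = D.σ := by
  intro g hg hgp hg1 hgw _
  let S : Subgroup (Cfsg.isometryGroup (ZMod 2) qf) := Subgroup.zpowers σ
  have hfix : ∀ h ∈ S, mv h w0 = w0 := by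
    intro h hh
    obtain ⟨n, -, rfl⟩ := exists_pow_lt σ_pow (by norm_num) hh
    clear hh
    induction n with
    | zero => rw [pow_zero, mv_one]
    | succ k ih => rw [pow_succ', mv_mul, ih]; exact w0_fix
  have hord : orderOf σ = 5 := orderOf_prime' (by norm_num) σ_pow D.ne_one
  obtain ⟨h, -, hh⟩ := exists_conj_into (p := 5) (by norm_num) S
    (Subgroup.zpowers_le.2 D.σ_mem_omega) hfix
    (by
      rw [Nat.card_zpowers, hord, show (1290240 : ℕ) = 5 * 258048 by norm_num,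
        Nat.factorization_mul (by norm_num) (by norm_num), Finsupp.add_apply,
        Nat.factorization_eq_zero_of_not_dvd (show ¬ 5 ∣ 258048 by norm_num),
        Nat.Prime.factorization_self (by norm_num), add_zero, pow_one])
    hg hgp hgw
  obtain ⟨n, hn, e⟩ := exists_pow_lt σ_pow (by norm_num) hh
  have base : ∀ k, k * (h * g * h⁻¹) * k⁻¹ = σ →
      ∃ t : Cfsg.isometryGroup (ZMod 2) qf, t * g * t⁻¹ = D.σ := fun k hk =>
    ⟨k * h, by rw [show (D.σ : Cfsg.isometryGroup (ZMod 2) qf) = σ from rfl, ← hk]; group⟩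
  have h2 : τ⁻¹ * σ ^ 2 * τ⁻¹⁻¹ = σ := by rw [← τ_conj]; group
  have up : ∀ j : ℕ, τ⁻¹ * (σ ^ 2) ^ j * τ⁻¹⁻¹ = σ ^ j := fun j => by rw [← conj_pow, h2]
  interval_cases n
  · exfalso
    rw [pow_zero] at e
    exact hg1 (conj_eq_one_iff.1 e.symm)
  · exact base 1 (by rw [one_mul, inv_one, mul_one, ← e, pow_one])
  · exact base τ⁻¹ (by rw [← e]; exact h2)
  · refine base (τ⁻¹ * (τ⁻¹ * τ⁻¹)) ?_
    have a1 : τ⁻¹ * σ ^ 3 * τ⁻¹⁻¹ = σ ^ 4 := by
      have := up 4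
      rwa [← pow_mul, show 2 * 4 = 5 + 3 by norm_num, pow_add, σ_pow, one_mul] at this
    have a2 : τ⁻¹ * σ ^ 4 * τ⁻¹⁻¹ = σ ^ 2 := by
      have := up 2
      rwa [← pow_mul] at this
    rw [← e]
    calc τ⁻¹ * (τ⁻¹ * τ⁻¹) * σ ^ 3 * (τ⁻¹ * (τ⁻¹ * τ⁻¹))⁻¹
        = τ⁻¹ * (τ⁻¹ * (τ⁻¹ * σ ^ 3 * τ⁻¹⁻¹) * τ⁻¹⁻¹) * τ⁻¹⁻¹ := by
          simp only [mul_inv_rev, inv_inv, mul_assoc]
      _ = σ := by rw [a1, a2, h2]
  · refine base (τ⁻¹ * τ⁻¹) ?_
    have a2 : τ⁻¹ * σ ^ 4 * τ⁻¹⁻¹ = σ ^ 2 := by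
      have := up 2
      rwa [← pow_mul] at this
    rw [← e]
    calc τ⁻¹ * τ⁻¹ * σ ^ 4 * (τ⁻¹ * τ⁻¹)⁻¹
        = τ⁻¹ * (τ⁻¹ * σ ^ 4 * τ⁻¹⁻¹) * τ⁻¹⁻¹ := by
          simp only [mul_inv_rev, inv_inv, mul_assoc]
      _ = σ := by rw [a2, h2]
where
  exists_pow_lt {G : Type} [Group G] {x : G} {n : ℕ} (hx : x ^ n = 1) (hn : 0 < n) {y : G}
      (hy : y ∈ Subgroup.zpowers x) : ∃ k, k < n ∧ x ^ k = y := by
    obtain ⟨i, rfl⟩ := Subgroup.mem_zpowers_iff.1 hy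
    refine ⟨(i % n).toNat, by
      have := Int.emod_lt_of_pos i (show (0 : ℤ) < n by omega)
      have := Int.emod_nonneg i (show (n : ℤ) ≠ 0 by omega)
      omega, ?_⟩
    rw [← zpow_natCast, Int.toNat_of_nonneg (Int.emod_nonneg i (by omega)), Int.emod_def, zpow_sub,
      zpow_mul, zpow_natCast, hx, one_zpow, inv_one, mul_one]

theorem exists_ctx : Nonempty (Ctx 5 1) := by
  obtain ⟨a, ha, hap⟩ := exists_lift_σ D
  obtain ⟨W⟩ := exists_swap_w0
  exact ⟨{ D := D, a := a, ha := ha, hap := hap, hm := le_rfl, hi := index_W, hs := simple_nonab.1,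
           nonab := simple_nonab.2, irr := irr, W := W, hw := ⟨_, emb_w0⟩, fusion := fusion }⟩

end Cfsg.Agent.Lib.Co1Local52.Five
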