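import Cfsg.Agent.Lib.Forms.Bridge
import Cfsg.Agent.Lib.OrthStd.Models

/-!
Isometry groups of quadratic forms over the field with two elements: vectors, polar form, and the
commutator subgroup of index two not containing the reflections.
-/

set_option autoImplicit false

namespace Cfsg.Agent.Lib.Co1Local52

open Cfsg
open scoped Matrix

variable {ι : Type} [Fintype ι] [DecidableEq ι] {f : (ι → ZMod 2) → ZMod 2}

/-- The image of a vector under an isometry. -/
def mv (g : Cfsg.isometryGroup (ZMod 2) f) (v : ι → ZMod 2) : ι → ZMod 2 :=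
  ((g : Matrix.GeneralLinearGroup ι (ZMod 2)) : Matrix ι ι (ZMod 2)) *ᵥ v

theorem mv_mul (g h : Cfsg.isometryGroup (ZMod 2) f) (v : ι → ZMod 2) :
    mv (g * h) v = mv g (mv h v) :=
  (Matrix.mulVec_mulVec v _ _).symm

theorem mv_one (v : ι → ZMod 2) : mv (1 : Cfsg.isometryGroup (ZMod 2) f) v = v :=
  Matrix.one_mulVec v

theorem mv_inv (g : Cfsg.isometryGroup (ZMod 2) f) (v : ι → ZMod 2) : mv g⁻¹ (mv g v) = v := by
  rw [← mv_mul, inv_mul_cancel, mv_one]

theorem mv_inv' (g : Cfsg.isometryGroup (ZMod 2) f) (v : ι → ZMod 2) : mv g (mv g⁻¹ v) = v := by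
  rw [← mv_mul, mul_inv_cancel, mv_one]

theorem mv_add (g : Cfsg.isometryGroup (ZMod 2) f) (v w : ι → ZMod 2) :
    mv g (v + w) = mv g v + mv g w :=
  Matrix.mulVec_add _ _ _

theorem mv_zero (g : Cfsg.isometryGroup (ZMod 2) f) : mv g 0 = 0 := Matrix.mulVec_zero _

theorem mv_form (g : Cfsg.isometryGroup (ZMod 2) f) (v : ι → ZMod 2) : f (mv g v) = f v := g.2 v v

theorem mv_injective (g : Cfsg.isometryGroup (ZMod 2) f) : Function.Injective (mv g) :=
  fun a b h => by rw [← mv_inv g a, h, mv_inv]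

theorem iso_ext {g h : Cfsg.isometryGroup (ZMod 2) f} (e : ∀ v, mv g v = mv h v) : g = h :=
  Subtype.ext (Units.ext (Matrix.ext fun i j => by
    have := congrFun (e (Pi.single j 1)) i
    simpa [mv, Matrix.mulVec_single] using this))

/-- The polar form. -/
def pol (f : (ι → ZMod 2) → ZMod 2) (v w : ι → ZMod 2) : ZMod 2 := f (v + w) + f v + f w

theorem pol_mv (g : Cfsg.isometryGroup (ZMod 2) f) (v w : ι → ZMod 2) :
    pol f (mv g v) (mv g w) = pol f v w := by
  simp only [pol, ← mv_add, mv_form]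

/-- An isometry from a matrix with an inverse. -/
def mkIso (M M' : Matrix ι ι (ZMod 2)) (h1 : M * M' = 1) (h2 : M' * M = 1)
    (hf : ∀ v, f (M *ᵥ v) = f v) : Cfsg.isometryGroup (ZMod 2) f :=
  ⟨⟨M, M', h1, h2⟩, fun v _ => hf v⟩

theorem mv_mkIso (M M' : Matrix ι ι (ZMod 2)) (h1 : M * M' = 1) (h2 : M' * M = 1)
    (hf : ∀ v, f (M *ᵥ v) = f v) (v : ι → ZMod 2) : mv (mkIso M M' h1 h2 hf) v = M *ᵥ v := rfl

/-- The matrix of a linear map, by columns. -/
def colMat (T : (ι → ZMod 2) → (ι → ZMod 2)) : Matrix ι ι (ZMod 2) :=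
  fun i j => T (Pi.single j 1) i

/-- The reflection map. -/
def reflFun (f : (ι → ZMod 2) → ZMod 2) (v x : ι → ZMod 2) : ι → ZMod 2 := x + pol f v x • v

variable (Q : QuadraticForm (ZMod 2) (ι → ZMod 2))

theorem omega_index (hf : ∀ v, f v = Q v) (hQ : Forms.Nondeg Q) (h2 : 2 ≤ Fintype.card ι)
    (h4 : Fintype.card ι ≠ 4) : (Cfsg.Omega (ZMod 2) f).index = 2 := by
  show (commutator _).index = 2
  rw [Forms.index_commutator_equiv (Forms.isoOrth Q hf)]
  exact Forms.index_commutator_two hQ (by decide)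
    (by rwa [Module.finrank_fintype_fun_eq_card]) (Or.inr (by rwa [Module.finrank_fintype_fun_eq_card]))

theorem refl_notMem (hf : ∀ v, f v = Q v) (hQ : Forms.Nondeg Q) (h4 : Fintype.card ι ≠ 4)
    (g : Cfsg.isometryGroup (ZMod 2) f) (v : ι → ZMod 2) (hv : f v = 1)
    (hg : ∀ x, mv g x = reflFun f v x) : g ∉ Cfsg.Omega (ZMod 2) f := by
  intro hmem
  have h : (∃ a : ZMod 2, a ≠ 0 ∧ a ≠ 1) ∨ Module.finrank (ZMod 2) (ι → ZMod 2) ≠ 4 :=
    Or.inr (by rwa [Module.finrank_fintype_fun_eq_card])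
  have hQv : Q v = 1 := (hf v).symm.trans hv
  have e : Forms.isoOrth Q hf g = Forms.orefl Q v := by
    refine Subtype.ext (LinearEquiv.ext fun x => ?_)
    rw [Forms.isoOrth_apply]
    show mv g x = Forms.refl Q v x
    rw [hg, Forms.refl_apply, hQv, inv_one, one_mul]
    simp only [reflFun, pol, QuadraticMap.polar, hf, CharTwo.sub_eq_add, sub_eq_add_neg,
      ← neg_smul, CharTwo.neg_eq]
  have hk := Abelianization.commutator_subset_ker
    ((Forms.dicksonHom hQ h).comp (Forms.isoOrth Q hf).toMonoidHom) hmem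
  rw [MonoidHom.mem_ker, MonoidHom.comp_apply] at hk
  change Forms.dicksonHom hQ h (Forms.isoOrth Q hf g) = 1 at hk
  rw [e, Forms.dicksonHom_orefl hQ h (by rw [hQv]; exact one_ne_zero)] at hk
  exact absurd hk (by decide)

theorem exists_refl (hf : ∀ v, f v = Q v) (v : ι → ZMod 2) (hv : f v = 1) :
    ∃ g : Cfsg.isometryGroup (ZMod 2) f, ∀ x, mv g x = reflFun f v x := by
  refine ⟨(Forms.isoOrth Q hf).symm (Forms.orefl Q v), fun x => ?_⟩
  have hQv : Q v = 1 := (hf v).symm.trans hv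
  show ((((Forms.isoOrth Q hf).symm (Forms.orefl Q v) : Cfsg.isometryGroup (ZMod 2) f) :
    Matrix.GeneralLinearGroup ι (ZMod 2)) : Matrix ι ι (ZMod 2)) *ᵥ x = _
  rw [← Forms.isoOrth_apply Q hf, MulEquiv.apply_symm_apply]
  show Forms.refl Q v x = _
  rw [Forms.refl_apply, hQv, inv_one, one_mul]
  simp only [reflFun, pol, QuadraticMap.polar, hf, CharTwo.sub_eq_add, sub_eq_add_neg,
    ← neg_smul, CharTwo.neg_eq]

end Cfsg.Agent.Lib.Co1Local52
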