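import Mathlib

/-!
Elements of prime order over a kernel of coprime order, and centralisers over a central kernel of
exponent two.
-/

set_option autoImplicit false

namespace Cfsg.Agent.Lib.Co1Local52

variable {G H : Type*} [Group G] [Group H]

theorem orderOf_prime' {p : ℕ} (hp : p.Prime) {g : G} (h : g ^ p = 1) (hg : g ≠ 1) : orderOf g = p := by
  have := Fact.mk hp
  exact orderOf_eq_prime h hg

/-- Two elements of prime order with the same image are conjugate under the kernel. -/
theorem exists_conj_ker [Finite G] {p : ℕ} (hp : p.Prime) (f : G →* H)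
    (hcop : ¬ p ∣ Nat.card f.ker) {a b : G} (ha : a ^ p = 1) (hb : b ^ p = 1)
    (hab : f a = f b) (h1 : f a ≠ 1) : ∃ q ∈ f.ker, q * a * q⁻¹ = b := by
  have := Fact.mk hp
  have hfp : (f a) ^ p = 1 := by rw [← map_pow, ha, map_one]
  have hfo : orderOf (f a) = p := orderOf_prime' hp hfp h1
  have hao : orderOf a = p := orderOf_prime' hp ha fun h => h1 (by rw [h, map_one])
  have hbo : orderOf b = p := orderOf_prime' hp hb fun h => h1 (by rw [hab, h, map_one])
  set K := (Subgroup.zpowers (f a)).comap f with hK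
  let φ : K →* Subgroup.zpowers (f a) := (f.comp K.subtype).codRestrict _ fun k => k.2
  have haK : a ∈ K := Subgroup.mem_zpowers (f a)
  have hbK : b ∈ K := by
    show f b ∈ Subgroup.zpowers (f a)
    rw [← hab]
    exact Subgroup.mem_zpowers _
  have hsurj : Function.Surjective φ := by
    rintro ⟨_, i, rfl⟩
    exact ⟨⟨a ^ i, K.zpow_mem haK i⟩, Subtype.ext (map_zpow f a i)⟩
  have hker : Nat.card φ.ker = Nat.card f.ker := by
    refine Nat.card_congr ⟨fun x => ⟨x.1.1, ?_⟩, fun x => ⟨⟨x.1, ?_⟩, ?_⟩, fun x => rfl, fun x => rfl⟩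
    · exact congrArg Subtype.val (MonoidHom.mem_ker.1 x.2)
    · show f x.1 ∈ Subgroup.zpowers (f a)
      rw [MonoidHom.mem_ker.1 x.2]
      exact one_mem _
    · exact Subtype.ext (MonoidHom.mem_ker.1 x.2)
  have hcard : Nat.card K = Nat.card f.ker * p := by
    have h := Subgroup.card_mul_index φ.ker
    rw [Subgroup.index_ker, MonoidHom.range_eq_top.2 hsurj, Subgroup.card_top, Nat.card_zpowers,
      hfo, hker] at h
    exact h.symm
  have hfac : ∀ x : K, orderOf x = p →
      Nat.card (Subgroup.zpowers x) = p ^ (Nat.card K).factorization p := fun x hx => by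
    rw [Nat.card_zpowers, hx, hcard, Nat.factorization_mul (Nat.card_pos).ne' hp.ne_zero,
      Finsupp.add_apply, Nat.factorization_eq_zero_of_not_dvd hcop,
      Nat.Prime.factorization_self hp, zero_add, pow_one]
  let A : Sylow p K := Sylow.ofCard (Subgroup.zpowers ⟨a, haK⟩)
    (hfac _ ((Subgroup.orderOf_mk a haK).trans hao))
  let B : Sylow p K := Sylow.ofCard (Subgroup.zpowers ⟨b, hbK⟩)
    (hfac _ ((Subgroup.orderOf_mk b hbK).trans hbo))
  obtain ⟨k, hk⟩ := MulAction.exists_smul_eq K A B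
  have hmem : k * ⟨a, haK⟩ * k⁻¹ ∈ (B : Subgroup K) := by
    rw [← hk, Sylow.coe_subgroup_smul]
    exact ⟨⟨a, haK⟩, Subgroup.mem_zpowers _, rfl⟩
  obtain ⟨j, hj⟩ := Subgroup.mem_zpowers_iff.1
    (show k * ⟨a, haK⟩ * k⁻¹ ∈ Subgroup.zpowers (⟨b, hbK⟩ : K) from hmem)
  have hj' : b ^ j = (k : G) * a * (k : G)⁻¹ := congrArg Subtype.val hj
  obtain ⟨i, hi⟩ := Subgroup.mem_zpowers_iff.1 k.2
  have hfj : f b ^ j = f b := by
    rw [← map_zpow, hj', map_mul, map_mul, map_inv, ← hi, hab]
    exact mul_inv_eq_of_eq_mul ((Commute.refl (f b)).zpow_left i).eq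
  have hbj : b ^ j = b := by
    have h := zpow_eq_zpow_iff_modEq (x := f b) (m := j) (n := 1)
    rw [zpow_one, ← hab, hfo] at h
    have h' := h.1 (hab ▸ hfj)
    rw [← hbo] at h'
    simpa using (zpow_eq_zpow_iff_modEq (x := b)).2 h'
  refine ⟨(k : G) * (a ^ i)⁻¹, ?_, ?_⟩
  · rw [MonoidHom.mem_ker, map_mul, map_inv, map_zpow, ← hi, mul_inv_cancel]
  · rw [← hbj, hj']
    have hc : (a ^ i)⁻¹ * a * a ^ i = a := by
      rw [mul_assoc, ← ((Commute.refl a).zpow_left i).eq, inv_mul_cancel_left]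
    calc (k : G) * (a ^ i)⁻¹ * a * ((k : G) * (a ^ i)⁻¹)⁻¹
        = (k : G) * ((a ^ i)⁻¹ * a * a ^ i) * (k : G)⁻¹ := by group
      _ = _ := by rw [hc]

/-- The subgroup generated by an element is normal in its centraliser. -/
instance zpowers_normal (x : G) :
    ((Subgroup.zpowers x).subgroupOf (Subgroup.centralizer ({x} : Set G))).Normal := by
  refine ⟨fun n hn g => ?_⟩
  obtain ⟨i, hi⟩ := Subgroup.mem_zpowers_iff.1 hn
  have hc : Commute (g : G) x := Subgroup.mem_centralizer_singleton_iff.1 g.2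
  show (g : G) * (n : G) * (g : G)⁻¹ ∈ Subgroup.zpowers x
  have hi' : x ^ i = (n : G) := hi
  rw [← hi', (hc.zpow_right i).eq, mul_inv_cancel_right]
  exact Subgroup.mem_zpowers_iff.2 ⟨i, rfl⟩

/-- A lift of odd prime order. -/
theorem exists_lift_order {p : ℕ} (hp : p.Prime) (hodd : Odd p) (f : G →* H)
    (hf : Function.Surjective f) (hker : ∀ z, f z = 1 → z * z = 1) {a : H} (ha : a ^ p = 1)
    (ha1 : a ≠ 1) : ∃ α : G, f α = a ∧ orderOf α = p := by
  obtain ⟨β, hβ⟩ := hf a
  have h1 : f (β ^ (p + 1)) = a := by rw [map_pow, hβ, pow_succ, ha, one_mul]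
  refine ⟨β ^ (p + 1), h1, orderOf_prime' hp ?_ fun h => ha1 (by rw [← h1, h, map_one])⟩
  obtain ⟨k, hk⟩ := hodd
  have hz := hker (β ^ p) (by rw [map_pow, hβ, ha])
  calc (β ^ (p + 1)) ^ p = (β ^ p * β ^ p) ^ (k + 1) := by
        rw [← pow_two, ← pow_mul, ← pow_mul, ← pow_mul]
        congr 1
        rw [hk]; ring
    _ = 1 := by rw [hz, one_pow]

theorem sup_center_normal {α : G} :
    ((Subgroup.zpowers α ⊔ Subgroup.center G).subgroupOf
      (Subgroup.centralizer ((Subgroup.zpowers α : Subgroup G) : Set G))).Normal := by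
  refine ⟨fun n hn g => ?_⟩
  have hc : Commute (g : G) α :=
    (Subgroup.mem_centralizer_iff.1 g.2 α (Subgroup.mem_zpowers α)).symm
  have hle : Subgroup.zpowers α ⊔ Subgroup.center G ≤ Subgroup.centralizer ({(g : G)} : Set G) := by
    refine sup_le (Subgroup.zpowers_le.2 (Subgroup.mem_centralizer_singleton_iff.2 hc.eq.symm)) ?_
    exact fun z hz => Subgroup.mem_centralizer_singleton_iff.2 (Subgroup.mem_center_iff.1 hz _).symm
  show (g : G) * (n : G) * (g : G)⁻¹ ∈ Subgroup.zpowers α ⊔ Subgroup.center G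
  rw [← Subgroup.mem_centralizer_singleton_iff.1 (hle (show (n : G) ∈ Subgroup.zpowers α ⊔ Subgroup.center G from hn)), mul_inv_cancel_right]
  exact hn

/-- The centraliser modulo the element and the centre. -/
theorem centralizer_quot {p : ℕ} (hp : p.Prime) (hodd : Odd p) (f : G →* H)
    (hf : Function.Surjective f) (hker : f.ker = Subgroup.center G)
    (hsq : ∀ z, f z = 1 → z * z = 1) {α : G} {a : H} (hα : f α = a) (hαp : α ^ p = 1)
    [((Subgroup.zpowers α ⊔ Subgroup.center G).subgroupOf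
      (Subgroup.centralizer ((Subgroup.zpowers α : Subgroup G) : Set G))).Normal] :
    Nonempty (↥(Subgroup.centralizer ({a} : Set H)) ⧸
        (Subgroup.zpowers a).subgroupOf (Subgroup.centralizer ({a} : Set H)) ≃*
      ↥(Subgroup.centralizer ((Subgroup.zpowers α : Subgroup G) : Set G)) ⧸
        (Subgroup.zpowers α ⊔ Subgroup.center G).subgroupOf
          (Subgroup.centralizer ((Subgroup.zpowers α : Subgroup G) : Set G))) := by
  subst hα
  set Cα := Subgroup.centralizer ((Subgroup.zpowers α : Subgroup G) : Set G)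
  let φ : Cα →* Subgroup.centralizer ({f α} : Set H) :=
    (f.comp Cα.subtype).codRestrict _ fun g => Subgroup.mem_centralizer_singleton_iff.2 (by
      show f g * f α = f α * f g
      rw [← map_mul, ← map_mul, Subgroup.mem_centralizer_iff.1 g.2 α (Subgroup.mem_zpowers α)])
  have hφ : Function.Surjective φ := by
    rintro ⟨x, hx⟩
    obtain ⟨g, rfl⟩ := hf x
    have hc : g * α * g⁻¹ * α⁻¹ ∈ Subgroup.center G := by
      rw [← hker, MonoidHom.mem_ker, map_mul, map_mul, map_mul, map_inv, map_inv,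
        Subgroup.mem_centralizer_singleton_iff.1 hx, mul_inv_cancel_right, mul_inv_cancel]
    set w := g * α * g⁻¹ * α⁻¹ with hw
    have hwc : Commute w α := (Subgroup.mem_center_iff.1 hc α).symm
    have hwp : w ^ p = 1 := by
      have hg : (g * α * g⁻¹) ^ p = 1 := by rw [conj_pow, hαp, mul_one, mul_inv_cancel]
      have hgw : g * α * g⁻¹ = w * α := by rw [hw, inv_mul_cancel_right]
      rw [hgw, hwc.mul_pow, hαp, mul_one] at hg
      exact hg
    have hw2 : w * w = 1 := hsq w (by rw [← hker] at hc; exact hc)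
    have hw1 : w = 1 := by
      obtain ⟨k, hk⟩ := hodd
      rwa [hk, pow_succ, pow_mul, pow_two, hw2, one_pow, one_mul] at hwp
    refine ⟨⟨g, ?_⟩, rfl⟩
    rw [Subgroup.mem_centralizer_iff]
    rintro _ ⟨i, rfl⟩
    have hga : Commute g α := mul_inv_eq_iff_eq_mul.1 (mul_inv_eq_one.1 hw1)
    exact ((hga.zpow_right i).eq).symm
  let ψ := (QuotientGroup.mk' ((Subgroup.zpowers (f α)).subgroupOf
    (Subgroup.centralizer ({f α} : Set H)))).comp φ
  have hψ : Function.Surjective ψ := (QuotientGroup.mk'_surjective _).comp hφ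
  have hk : ψ.ker = (Subgroup.zpowers α ⊔ Subgroup.center G).subgroupOf Cα := by
    ext g
    rw [MonoidHom.mem_ker]
    show (QuotientGroup.mk (φ g) : _) = 1 ↔ _
    rw [QuotientGroup.eq_one_iff, Subgroup.mem_subgroupOf, Subgroup.mem_subgroupOf]
    show f g ∈ _ ↔ _
    constructor
    · intro h
      obtain ⟨i, hi⟩ := Subgroup.mem_zpowers_iff.1 h
      have : (α ^ i)⁻¹ * g ∈ Subgroup.center G := by
        rw [← hker, MonoidHom.mem_ker, map_mul, map_inv, map_zpow, hi, inv_mul_cancel]
      rw [← mul_inv_cancel_left (α ^ i) (g : G)]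
      exact Subgroup.mul_mem_sup (Subgroup.mem_zpowers_iff.2 ⟨i, rfl⟩) this
    · intro h
      refine (sup_le (Subgroup.zpowers_le.2 (Subgroup.mem_zpowers (f α))) (fun z hz => ?_) :
        Subgroup.zpowers α ⊔ Subgroup.center G ≤ (Subgroup.zpowers (f α)).comap f) h
      show f z ∈ Subgroup.zpowers (f α)
      have hz' : z ∈ f.ker := by rw [hker]; exact hz
      rw [MonoidHom.mem_ker.1 hz']
      exact one_mem _
  exact ⟨((QuotientGroup.quotientMulEquivOfEq hk.symm).trans
    (QuotientGroup.quotientKerEquivOfSurjective ψ hψ)).symm⟩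

end Cfsg.Agent.Lib.Co1Local52
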