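import Cfsg.Agent.Lib.Co1Local52.Coord
import Cfsg.Agent.Lib.Co1Local52.Iso

/-!
The centraliser of the involution acts on the extraspecial subgroup modulo its centre as the
commutator subgroup of the hyperbolic orthogonal group; two conjugate involutions can be swapped.
-/

set_option autoImplicit false

namespace Cfsg.Agent.Lib.Co1Local52

open Cfsg Cfsg.Agent.Lib.Leech Cfsg.Agent.Lib.Co2Cent Cfsg.Agent.Lib.Golay
open Cfsg.Agent.Lib.SporStruct
open Cfsg.Agent.Lib.Co1Cent (V8 qf C1 Q1 z1 psi qq qq_mem C0 pi mk0 rho1)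
open scoped Pointwise symmDiff

/-- The kernel as a subgroup of the centraliser. -/
noncomputable def kof : Q1 ≃* rho.ker :=
  ((MonoidHom.ofInjective Co1Cent.psi_injective).trans
    (MulEquiv.subgroupCongr Co1Cent.ker_rho1.symm)).symm

theorem psi_mem (k : rho.ker) : psi k ∈ Q1 := by
  show _ ∈ rho1.ker
  rw [Co1Cent.ker_rho1]
  exact ⟨k, rfl⟩

theorem kof_psi (k : rho.ker) : kof ⟨psi k, psi_mem k⟩ = k := by
  rw [kof, MulEquiv.symm_apply_eq]
  exact Subtype.ext rfl

theorem psi_kof (x : Q1) : psi (kof x) = (x : C1) := by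
  have h := MulEquiv.apply_symm_apply
    ((MonoidHom.ofInjective Co1Cent.psi_injective).trans
      (MulEquiv.subgroupCongr Co1Cent.ker_rho1.symm)) x
  exact congrArg Subtype.val h

open Classical in
/-- The coordinates of an element of the extraspecial subgroup. -/
noncomputable def coord8 (x : C1) : V8 := if h : x ∈ Q1 then coordK (kof ⟨x, h⟩) else 0

theorem coord8_of {x : C1} (h : x ∈ Q1) : coord8 x = coordK (kof ⟨x, h⟩) := dif_pos h

theorem coord8_psi (k : rho.ker) : coord8 (psi k) = coordK k := by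
  rw [coord8_of (psi_mem k), kof_psi]

/-- The involution as an element of its centraliser. -/
noncomputable def zq : C1 := psi zz

theorem coe_zq : ((zq : C1) : Spor.Co1) = z1 := rfl

theorem zq_mem : zq ∈ Q1 := psi_mem zz

theorem zq_comm (g : C1) : g * zq = zq * g :=
  Subtype.ext (Subgroup.mem_centralizer_singleton_iff.1 g.2)

theorem zq_ne_one : zq ≠ 1 := fun h =>
  zz_ne_one (Co1Cent.psi_injective (h.trans (map_one psi).symm))

theorem zq_sq : zq * zq = 1 := by
  refine Subtype.ext ?_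
  show z1 * z1 = 1
  rw [← sq, ← Co1Cent.orderOf_z1, pow_orderOf_eq_one]

theorem exists_psi {x : C1} (h : x ∈ Q1) : ∃ k, psi k = x := ⟨kof ⟨x, h⟩, psi_kof _⟩

theorem coord8_mul {x y : C1} (hx : x ∈ Q1) (hy : y ∈ Q1) :
    coord8 (x * y) = coord8 x + coord8 y := by
  obtain ⟨a, rfl⟩ := exists_psi hx
  obtain ⟨b, rfl⟩ := exists_psi hy
  rw [← map_mul, coord8_psi, coord8_psi, coord8_psi, coordK_mul]

theorem coord8_one : coord8 1 = 0 := by rw [← map_one psi, coord8_psi, coordK_one]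

theorem coord8_zq : coord8 zq = 0 := by rw [zq, coord8_psi, coordK_zz]

theorem coord8_inv {x : C1} (hx : x ∈ Q1) : coord8 x⁻¹ = coord8 x := by
  have h := coord8_mul hx (inv_mem hx)
  rw [mul_inv_cancel, coord8_one] at h
  exact (eq_neg_of_add_eq_zero_right h.symm).trans (funext fun k => ZMod.neg_eq_self_mod_two _)

theorem coord8_eq_zero {x : C1} (hx : x ∈ Q1) (h : coord8 x = 0) : x = 1 ∨ x = zq := by
  obtain ⟨a, rfl⟩ := exists_psi hx
  rw [coord8_psi] at h
  rcases (coordK_eq_zero a).1 h with rfl | rfl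
  · exact Or.inl (map_one _)
  · exact Or.inr rfl

theorem eq_or_of_coord8_eq {x y : C1} (hx : x ∈ Q1) (hy : y ∈ Q1) (h : coord8 x = coord8 y) :
    y = x ∨ y = x * zq := by
  have h0 : coord8 (x⁻¹ * y) = 0 := by
    rw [coord8_mul (inv_mem hx) hy, coord8_inv hx, h, Co1Cent.two_vanish]
  rcases coord8_eq_zero (mul_mem (inv_mem hx) hy) h0 with e | e
  · exact Or.inl (inv_mul_eq_one.1 e).symm
  · exact Or.inr (inv_mul_eq_iff_eq_mul.1 e)

theorem coord8_surjective (c : V8) : ∃ x ∈ Q1, coord8 x = c := by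
  obtain ⟨k, hk⟩ := coordK_surjective c
  exact ⟨psi k, psi_mem k, by rw [coord8_psi, hk]⟩

theorem sq_coord8 {x : C1} (hx : x ∈ Q1) : x * x = if qf (coord8 x) = 0 then 1 else zq := by
  obtain ⟨a, rfl⟩ := exists_psi hx
  rw [← map_mul, sq_coordK, coord8_psi]
  split_ifs
  · exact map_one _
  · rfl

theorem qf_eq_zero_iff {x : C1} (hx : x ∈ Q1) : qf (coord8 x) = 0 ↔ x * x = 1 := by
  rw [sq_coord8 hx]
  constructor
  · intro h; rw [if_pos h]
  · intro h
    by_contra hc
    rw [if_neg hc] at h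
    exact zq_ne_one h

theorem comm_or {x y : C1} (hx : x ∈ Q1) (hy : y ∈ Q1) : y * x = x * y ∨ y * x = zq * (x * y) := by
  obtain ⟨a, rfl⟩ := exists_psi hx
  obtain ⟨b, rfl⟩ := exists_psi hy
  rcases mul_comm_or b a with h | h
  · exact Or.inl (by rw [← map_mul, h, map_mul])
  · exact Or.inr (by rw [← map_mul, h, map_mul, map_mul]; rfl)

theorem zcases : ∀ a : ZMod 2, a = 0 ∨ a = 1 := by decide

theorem comm_iff {x y : C1} (hx : x ∈ Q1) (hy : y ∈ Q1) :
    y * x = x * y ↔ pol qf (coord8 x) (coord8 y) = 0 := by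
  have hsq : ∀ u : C1, u ∈ Q1 → u * u = 1 ∨ u * u = zq := fun u hu => by
    rw [sq_coord8 hu]; split_ifs <;> simp
  have key : ∀ w : C1, y * x = w * (x * y) → (∀ g : C1, g * w = w * g) →
      (x * y) * (x * y) = w * ((x * x) * (y * y)) := fun w h hw => by
    calc (x * y) * (x * y) = x * (y * x) * y := by simp only [mul_assoc]
      _ = x * (w * (x * y)) * y := by rw [h]
      _ = (x * w) * (x * (y * y)) := by simp only [mul_assoc]
      _ = w * ((x * x) * (y * y)) := by rw [hw x]; simp only [mul_assoc]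
  have hm := sq_coord8 (mul_mem hx hy)
  rw [coord8_mul hx hy] at hm
  have hx2 := sq_coord8 hx
  have hy2 := sq_coord8 hy
  rw [pol]
  constructor
  · intro h
    rw [key 1 (by rw [one_mul, h]) (fun g => by rw [one_mul, mul_one]), one_mul, hx2, hy2] at hm
    revert hm
    generalize qf (coord8 x + coord8 y) = a
    generalize qf (coord8 x) = b
    generalize qf (coord8 y) = c
    rcases zcases a with rfl | rfl <;> rcases zcases b with rfl | rfl <;>
      rcases zcases c with rfl | rfl <;>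
      simp [zq_sq, zq_ne_one, Ne.symm zq_ne_one, CharTwo.add_self_eq_zero]
  · intro h
    rcases comm_or hx hy with e | e
    · exact e
    rw [key zq e zq_comm, hx2, hy2] at hm
    revert hm h
    generalize qf (coord8 x + coord8 y) = a
    generalize qf (coord8 x) = b
    generalize qf (coord8 y) = c
    rcases zcases a with rfl | rfl <;> rcases zcases b with rfl | rfl <;>
      rcases zcases c with rfl | rfl <;>
      simp [zq_sq, zq_ne_one, Ne.symm zq_ne_one, CharTwo.add_self_eq_zero]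

theorem exists_pol_one : ∀ c : V8, c ≠ 0 → ∃ d, pol qf c d = 1 := by decide +kernel

theorem exists_noncomm {x : C1} (hx : x ∈ Q1) (h : coord8 x ≠ 0) :
    ∃ y ∈ Q1, y * x * y⁻¹ = x * zq := by
  obtain ⟨d, hd⟩ := exists_pol_one _ h
  obtain ⟨y, hy, rfl⟩ := coord8_surjective d
  refine ⟨y, hy, ?_⟩
  rcases comm_or hx hy with e | e
  · rw [comm_iff hx hy, hd] at e
    exact absurd e (by decide)
  · rw [e, ← mul_assoc, mul_inv_cancel_right]
    exact (zq_comm x).symm

/-- A lift of a coordinate vector. -/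
noncomputable def liftQ (c : V8) : C1 := Classical.choose (coord8_surjective c)

theorem liftQ_mem (c : V8) : liftQ c ∈ Q1 := (Classical.choose_spec (coord8_surjective c)).1

theorem coord8_liftQ (c : V8) : coord8 (liftQ c) = c :=
  (Classical.choose_spec (coord8_surjective c)).2

theorem conj_mem_Q1 (g : C1) {x : C1} (hx : x ∈ Q1) : g * x * g⁻¹ ∈ Q1 :=
  (MonoidHom.normal_ker _).conj_mem x hx g

/-- The action on coordinates. -/
noncomputable def act2 (g : C1) (c : V8) : V8 := coord8 (g * liftQ c * g⁻¹)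

theorem act2_coord8 (g : C1) {x : C1} (hx : x ∈ Q1) :
    act2 g (coord8 x) = coord8 (g * x * g⁻¹) := by
  rcases eq_or_of_coord8_eq hx (liftQ_mem _) (coord8_liftQ (coord8 x)).symm with e | e <;>
    rw [act2, e]
  have : g * (x * zq) * g⁻¹ = (g * x * g⁻¹) * zq := by
    rw [← mul_assoc g, mul_assoc (g * x) zq, ← zq_comm, ← mul_assoc]
  rw [this, coord8_mul (conj_mem_Q1 g hx) zq_mem, coord8_zq, add_zero]

theorem act2_add (g : C1) (c d : V8) : act2 g (c + d) = act2 g c + act2 g d := by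
  obtain ⟨x, hx, rfl⟩ := coord8_surjective c
  obtain ⟨y, hy, rfl⟩ := coord8_surjective d
  rw [← coord8_mul hx hy, act2_coord8 g (mul_mem hx hy), act2_coord8 g hx, act2_coord8 g hy,
    ← coord8_mul (conj_mem_Q1 g hx) (conj_mem_Q1 g hy), conj_mul]

theorem act2_mul (g h : C1) (c : V8) : act2 (g * h) c = act2 g (act2 h c) := by
  obtain ⟨x, hx, rfl⟩ := coord8_surjective c
  rw [act2_coord8 _ hx, act2_coord8 _ hx, act2_coord8 _ (conj_mem_Q1 h hx)]
  simp only [mul_assoc, mul_inv_rev]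

theorem act2_one (c : V8) : act2 1 c = c := by rw [act2, one_mul, inv_one, mul_one, coord8_liftQ]

theorem qf_act2 (g : C1) (c : V8) : qf (act2 g c) = qf c := by
  obtain ⟨x, hx, rfl⟩ := coord8_surjective c
  rw [act2_coord8 _ hx]
  have h : qf (coord8 (g * x * g⁻¹)) = 0 ↔ qf (coord8 x) = 0 := by
    rw [qf_eq_zero_iff (conj_mem_Q1 g hx), qf_eq_zero_iff hx, conj_mul, conj_eq_one_iff]
  revert h
  generalize qf (coord8 (g * x * g⁻¹)) = a
  generalize qf (coord8 x) = b
  revert a b; decide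

/-- The matrix of an element. -/
noncomputable def mat2 : C1 →* Matrix (Fin 4 ⊕ Fin 4) (Fin 4 ⊕ Fin 4) (ZMod 2) where
  toFun g := LinearMap.toMatrix' (AddMonoidHom.toZModLinearMap 2 (AddMonoidHom.mk' (act2 g) (act2_add g)))
  map_one' := by
    rw [show AddMonoidHom.toZModLinearMap 2 (AddMonoidHom.mk' (act2 1) (act2_add 1)) = LinearMap.id
      from LinearMap.ext act2_one, LinearMap.toMatrix'_id]
  map_mul' g h := by
    rw [show AddMonoidHom.toZModLinearMap 2 (AddMonoidHom.mk' (act2 (g * h)) (act2_add (g * h))) =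
      (AddMonoidHom.toZModLinearMap 2 (AddMonoidHom.mk' (act2 g) (act2_add g))).comp
        (AddMonoidHom.toZModLinearMap 2 (AddMonoidHom.mk' (act2 h) (act2_add h)))
      from LinearMap.ext (act2_mul g h), LinearMap.toMatrix'_comp]

theorem mat2_mulVec (g : C1) (c : V8) : (mat2 g).mulVec c = act2 g c :=
  LinearMap.toMatrix'_mulVec _ _

/-- The action as a homomorphism into the orthogonal group. -/
noncomputable def rho2 : C1 →* Cfsg.isometryGroup (ZMod 2) qf :=
  mat2.toHomUnits.codRestrict _ fun g u _ => by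
    show qf ((mat2 g).mulVec u) = qf u
    rw [mat2_mulVec, qf_act2]

theorem mv_rho2 (g : C1) (c : V8) : mv (rho2 g) c = act2 g c := mat2_mulVec g c

theorem mv_rho2_coord8 (g : C1) {x : C1} (hx : x ∈ Q1) :
    mv (rho2 g) (coord8 x) = coord8 (g * x * g⁻¹) := by rw [mv_rho2, act2_coord8 g hx]

theorem rho2_eq_one_iff {g : C1} :
    rho2 g = 1 ↔ ∀ x ∈ Q1, coord8 (g * x * g⁻¹) = coord8 x := by
  constructor
  · intro h x hx
    rw [← mv_rho2_coord8 g hx, h, mv_one]
  · intro h
    refine iso_ext fun c => ?_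
    obtain ⟨x, hx, rfl⟩ := coord8_surjective c
    rw [mv_one, mv_rho2_coord8 g hx, h x hx]

theorem ker_rho2 : rho2.ker = Q1 := by
  have hle : Q1 ≤ rho2.ker := fun g hg => by
    refine rho2_eq_one_iff.2 fun x hx => ?_
    rw [coord8_mul (mul_mem hg hx) (inv_mem hg), coord8_mul hg hx, coord8_inv hg, add_comm _ (coord8 x),
      add_assoc, Co1Cent.two_vanish, add_zero]
  refine le_antisymm ?_ hle
  have hs := Co1Cent.isSimple_omega
  have hs' : IsSimpleGroup rho1.range :=
    (MulEquiv.subgroupCongr Co1Cent.range_rho1).isSimpleGroup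
  have hN : (rho2.ker.map rho1.rangeRestrict).Normal :=
    Subgroup.Normal.map (MonoidHom.normal_ker _) _ rho1.rangeRestrict_surjective
  rcases hN.eq_bot_or_eq_top with h | h
  · rw [Subgroup.map_eq_bot_iff, MonoidHom.ker_rangeRestrict] at h
    exact h
  exfalso
  have htop : rho2.ker = ⊤ := by
    rw [eq_top_iff]
    intro g _
    have hg : rho1.rangeRestrict g ∈ rho2.ker.map rho1.rangeRestrict := by rw [h]; trivial
    obtain ⟨y, hy, hyg⟩ := Subgroup.mem_map.1 hg
    have hk : y⁻¹ * g ∈ Q1 := by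
      show _ ∈ rho1.ker
      rw [MonoidHom.mem_ker, map_mul, map_inv, inv_mul_eq_one]
      exact congrArg Subtype.val hyg
    rw [← mul_inv_cancel_left y g]
    exact mul_mem hy (hle hk)
  obtain ⟨σ, hσM, hσ, t, ht, hne, hne'⟩ := Co1Cent.exists_perm_moves
  let g := mk0 _ (monomial_comm_t0 hσM hσ isCode_empty)
  let t' : {s : Finset GolayPt // Off s} := ⟨σ • t, Co1Cent.smul_off_stab hσM hσ ht⟩
  have hconj : pi g * qq ⟨t, ht⟩ = qq t' * pi g := by
    rw [qq, qq, Co1Cent.psi_kerMap, Co1Cent.psi_kerMap, ← map_mul, ← map_mul]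
    refine congrArg pi (Subtype.ext ?_)
    rw [Subgroup.coe_mul, Subgroup.coe_mul, Co1Cent.ker0_one ht, Co1Cent.ker0_one t'.2]
    exact Co1Cent.monomial_mul_flip hσM ht.1 t'.2.1 rfl
  have h1 := rho2_eq_one_iff.1 (show rho2 (pi g) = 1 from
    MonoidHom.mem_ker.1 (htop ▸ Subgroup.mem_top _)) _ (qq_mem ⟨t, ht⟩)
  rw [hconj, mul_inv_cancel_right] at h1
  have hz : qq ⟨t, ht⟩ * zq = qq ⟨octᶜ ∆ t, off_symmDiff off_compl ht⟩ := by
    rw [zq_comm, qq, zq, ← map_mul, Co1Cent.mul_zz]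
    rfl
  rcases eq_or_of_coord8_eq (qq_mem _) (qq_mem _) h1 with e | e
  · exact hne (congrArg (fun p : octadFix oct × {s : Finset GolayPt // Off s} => p.2.1)
      (kerMap_bijective.1 (Co1Cent.psi_injective e))).symm
  · refine hne' ?_
    have e' : qq ⟨t, ht⟩ * zq = qq t' := by
      rw [e, mul_assoc, zq_sq, mul_one]
    rw [hz] at e'
    exact (congrArg (fun p : octadFix oct × {s : Finset GolayPt // Off s} => p.2.1)
      (kerMap_bijective.1 (Co1Cent.psi_injective e'))).symm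

theorem range_rho2 : rho2.range = Cfsg.Omega (ZMod 2) qf := by
  have : Finite (Cfsg.isometryGroup (ZMod 2) qf) :=
    Nat.finite_of_card_ne_zero (by rw [Co1Cent.card_isometry]; norm_num)
  have hc : Nat.card rho2.range = 174182400 := by
    have h := Subgroup.card_mul_index rho2.ker
    rw [Subgroup.index_ker, Co1Cent.card_C1, ker_rho2, Co1Cent.card_Q1] at h
    norm_num at h ⊢
    linarith
  have hidx : rho2.range.index = 2 := by
    have h := Subgroup.card_mul_index rho2.range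
    rw [hc, Co1Cent.card_isometry] at h
    omega
  have := Subgroup.normal_of_index_eq_two hidx
  have hle : commutator (Cfsg.isometryGroup (ZMod 2) qf) ≤ rho2.range := by
    have : Fact (Nat.Prime 2) := ⟨Nat.prime_two⟩
    have := isCyclic_of_prime_card (α := Cfsg.isometryGroup (ZMod 2) qf ⧸ rho2.range) (p := 2) hidx
    rw [← QuotientGroup.ker_mk' rho2.range, commutator_def, Subgroup.commutator_le]
    intro a _ b _
    rw [MonoidHom.mem_ker, map_commutatorElement, commutatorElement_eq_one_iff_mul_comm]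
    exact IsMulCommutative.is_comm.comm _ _
  exact (Subgroup.eq_of_le_of_card_ge hle (by rw [hc, ← Co1Cent.card_omega])).symm

theorem exists_lift_omega {g : Cfsg.isometryGroup (ZMod 2) qf}
    (hg : g ∈ Cfsg.Omega (ZMod 2) qf) : ∃ x : C1, rho2 x = g := by
  rw [← range_rho2] at hg
  exact hg

/-- The commutator subgroup is transitive on the non-zero singular vectors. -/
theorem omega_transitive {c d : V8} (hc : c ≠ 0) (hc' : qf c = 0) (hd : d ≠ 0) (hd' : qf d = 0) :
    ∃ g ∈ Cfsg.Omega (ZMod 2) qf, mv g c = d := by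
  have key : ∀ c : V8, c ≠ 0 → qf c = 0 → ∃ g ∈ Cfsg.Omega (ZMod 2) qf, mv g Co1Cent.c0 = c := by
    intro c h1 h2
    have hm : c ∈ MulAction.orbit C0 Co1Cent.c0 := by rw [Co1Cent.orbit_eq]; exact ⟨h1, h2⟩
    obtain ⟨x, hx⟩ := hm
    refine ⟨Co1Cent.rho x, ?_, (Co1Cent.mat_mulVec x _).trans hx⟩
    rw [← Co1Cent.range_rho1, ← Co1Cent.rho1_pi]
    exact ⟨_, rfl⟩
  obtain ⟨g, hg, rfl⟩ := key c hc hc'
  obtain ⟨h, hh, rfl⟩ := key d hd hd'
  exact ⟨h * g⁻¹, mul_mem hh (inv_mem hg), by rw [mv_mul, mv_inv]⟩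

/-- The non-central involutions of the extraspecial subgroup are conjugate. -/
theorem exists_conj_of_singular {x y : C1} (hx : x ∈ Q1) (hy : y ∈ Q1) (hx0 : coord8 x ≠ 0)
    (hxq : qf (coord8 x) = 0) (hy0 : coord8 y ≠ 0) (hyq : qf (coord8 y) = 0) :
    ∃ g : C1, g * x * g⁻¹ = y := by
  obtain ⟨r, hr, hrxy⟩ := omega_transitive hx0 hxq hy0 hyq
  obtain ⟨g, rfl⟩ := exists_lift_omega hr
  rw [mv_rho2_coord8 g hx] at hrxy
  rcases eq_or_of_coord8_eq (conj_mem_Q1 g hx) hy hrxy with e | e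
  · exact ⟨g, e.symm⟩
  · obtain ⟨q, hq, hq'⟩ := exists_noncomm (conj_mem_Q1 g hx) (hrxy ▸ hy0)
    refine ⟨q * g, ?_⟩
    rw [e, ← hq']
    simp only [mul_assoc, mul_inv_rev]

/-- A monomial element conjugating the involution both ways into the extraspecial subgroup. -/
theorem exists_both : ∃ h : Spor.Co1, ∃ x y : C1, x ∈ Q1 ∧ y ∈ Q1 ∧ coord8 x ≠ 0 ∧ coord8 y ≠ 0 ∧
    h * z1 * h⁻¹ = (x : Spor.Co1) ∧ h⁻¹ * z1 * h = (y : Spor.Co1) := by
  obtain ⟨o, ho, hoff⟩ := Co1Cent.exists_off_octad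
  obtain ⟨σ, hσ, hso⟩ := transitive_octads baseOctad_mem ho
  have hoff' : Off (σ⁻¹ • oct) := by
    refine ⟨?_, fun p hp hpo => ?_⟩
    · have e : (oct : Finset GolayPt).map (σ⁻¹).toEmbedding = σ⁻¹ • oct := by
        ext p
        simp only [Finset.mem_map, Finset.mem_smul_finset, Equiv.coe_toEmbedding, Equiv.Perm.smul_def]
      exact e ▸ IsCode.map (inv_mem hσ) baseOctad_mem.1
    · obtain ⟨q, hq, rfl⟩ := Finset.mem_smul_finset.1 hp
      have h2 : σ • σ⁻¹ • q ∈ σ • oct := Finset.smul_mem_smul_finset hpo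
      rw [smul_inv_smul, hso] at h2
      exact hoff.2 q h2 hq
  let m := monomial σ hσ ∅ isCode_empty
  have flip_compl : ∀ (s : Finset GolayPt) (hs : IsCode s),
      flip sᶜ hs.compl = negOne * flip s hs := fun s hs => by
    refine co0_ext fun i => ?_
    show monomial 1 _ sᶜ _ • eightE i = (negOne * monomial 1 _ s _) • eightE i
    by_cases h : i ∈ s <;> simp [mul_smul, monomial_apply_eightE, h, negOne_smul]
  have bar_flip : ∀ (s : Finset GolayPt) (hs : Off s),
      LeechMod2.Frame.bar (flip sᶜ hs.1.compl) = ((qq ⟨s, hs⟩ : C1) : Spor.Co1) := fun s hs => by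
    rw [flip_compl s hs.1, map_mul, LeechMod2.Frame.bar_eq_one.2 negOne_mem_center, one_mul]
    rfl
  have hcompl : ∀ (τ : Equiv.Perm GolayPt) (s : Finset GolayPt), τ • sᶜ = (τ • s)ᶜ := fun τ s => by
    ext p
    simp [← Finset.inv_smul_mem_iff]
  have ne0 : ∀ (s : Finset GolayPt) (hs : Off s), s.card = 8 → coord8 (qq ⟨s, hs⟩) ≠ 0 := by
    intro s hs hc e
    rcases coord8_eq_zero (qq_mem _) e with e | e
    · rw [← map_one psi] at e
      have e2 := Co1Cent.psi_injective e
      rw [one_eq] at e2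
      have e3 : s = ∅ := congrArg (fun p : octadFix oct × {s : Finset GolayPt // Off s} => p.2.1)
        (kerMap_bijective.1 e2)
      rw [e3] at hc
      simp at hc
    · have e3 : s = octᶜ := congrArg (fun p : octadFix oct × {s : Finset GolayPt // Off s} => p.2.1)
        (kerMap_bijective.1 (Co1Cent.psi_injective e))
      rw [e3] at hc
      revert hc
      decide +kernel
  refine ⟨LeechMod2.Frame.bar m, qq ⟨o, hoff⟩, qq ⟨σ⁻¹ • oct, hoff'⟩, qq_mem _, qq_mem _,
    ne0 _ _ ho.2, ne0 _ _ ((Finset.card_smul_finset _ _).trans baseOctad_mem.2), ?_, ?_⟩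
  · have hm : m * t0 = flip oᶜ hoff.1.compl * m :=
      Co1Cent.monomial_mul_flip hσ _ _ (by rw [hcompl, hso])
    rw [z1, ← map_mul, hm, map_mul, mul_inv_cancel_right, bar_flip _ hoff]
  · have hm : m * flip (σ⁻¹ • oct)ᶜ hoff'.1.compl = t0 * m :=
      Co1Cent.monomial_mul_flip hσ _ off_compl.1 (by rw [hcompl, smul_inv_smul])
    rw [z1, mul_assoc, ← map_mul, ← hm, map_mul, inv_mul_cancel_left, bar_flip _ hoff']

/-- Two conjugate involutions can be interchanged. -/
theorem exists_swap {x : C1} (hx : x ∈ Q1) (hx0 : coord8 x ≠ 0) (hxq : qf (coord8 x) = 0) :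
    ∃ t : Spor.Co1, t * z1 * t⁻¹ = (x : Spor.Co1) ∧ t * (x : Spor.Co1) * t⁻¹ = z1 := by
  obtain ⟨h0, a, b, ha, hb, ha0, hb0, hea, heb⟩ := exists_both
  have hz : z1 * z1 = 1 := by rw [← sq, ← Co1Cent.orderOf_z1, pow_orderOf_eq_one]
  have sing : ∀ (u : C1) (k : Spor.Co1), k * z1 * k⁻¹ = (u : Spor.Co1) → u ∈ Q1 →
      qf (coord8 u) = 0 := fun u k hk hu => by
    rw [qf_eq_zero_iff hu]
    refine Subtype.ext ?_
    show (u : Spor.Co1) * u = 1
    rw [← hk, conj_mul, hz, mul_one, mul_inv_cancel]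
  obtain ⟨g, hg⟩ := exists_conj_of_singular ha hx ha0 (sing a h0 hea ha) hx0 hxq
  obtain ⟨g1, hg1⟩ := exists_conj_of_singular hb hx hb0
    (sing b h0⁻¹ (by rw [inv_inv]; exact heb) hb) hx0 hxq
  have hgc : (g : Spor.Co1)⁻¹ * z1 * g = z1 := by
    rw [mul_assoc, ← Subgroup.mem_centralizer_singleton_iff.1 g.2, inv_mul_cancel_left]
  have hg1c : (g1 : Spor.Co1) * z1 * (g1 : Spor.Co1)⁻¹ = z1 := by
    rw [Subgroup.mem_centralizer_singleton_iff.1 g1.2, mul_inv_cancel_right]
  have e1 : (x : Spor.Co1) = (g : Spor.Co1) * a * (g : Spor.Co1)⁻¹ := by rw [← hg]; rfl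
  have e2 : (x : Spor.Co1) = (g1 : Spor.Co1) * b * (g1 : Spor.Co1)⁻¹ := by rw [← hg1]; rfl
  refine ⟨(g1 : Spor.Co1) * ((g : Spor.Co1) * h0)⁻¹, ?_, ?_⟩
  · rw [e2, ← heb]
    conv_rhs => rw [← hgc]
    simp only [mul_assoc, mul_inv_rev, inv_inv]
  · rw [e1, ← hea]
    conv_rhs => rw [← hg1c]
    simp only [mul_assoc, mul_inv_rev, inv_inv, inv_mul_cancel_left, inv_mul_cancel, mul_one]

end Cfsg.Agent.Lib.Co1Local52
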