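import Cfsg.Agent.Lib.Co1Local52.Swap
import Cfsg.Agent.Lib.Co1Local52.Lift
import Cfsg.Agent.Lib.PGroups.Frattini
import Cfsg.Agent.Lib.SquareMaps.Basic

/-!
A lift of an element of odd prime order and its centraliser inside the involution centraliser.
-/

set_option autoImplicit false

namespace Cfsg.Agent.Lib.Co1Local52

open Cfsg
open Cfsg.Agent.Lib.Co1Cent (V8 qf C1 Q1 z1)
open scoped Matrix commutatorElement

theorem extraspecial_of {E : Type*} [Group E] [Finite E] (hE : IsPGroup 2 E) (z : E) (hz : z ≠ 1)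
    (hzc : ∀ g, g * z = z * g) (hsq : ∀ g : E, g * g = 1 ∨ g * g = z)
    (hcomm : ∀ g h : E, h * g * h⁻¹ = g ∨ h * g * h⁻¹ = g * z)
    (hnc : ∀ g : E, g ≠ 1 → g ≠ z → ∃ h, h * g * h⁻¹ = g * z) (hex : ∃ g : E, g ≠ 1 ∧ g ≠ z) :
    IsExtraspecial 2 E := by
  have : Fact (Nat.Prime 2) := ⟨Nat.prime_two⟩
  have hcen : ∀ g : E, g ∈ Subgroup.center E ↔ g = 1 ∨ g = z := by
    intro g
    refine ⟨fun hg => ?_, ?_⟩
    · by_contra hc
      rw [not_or] at hc
      obtain ⟨h, hh⟩ := hnc g hc.1 hc.2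
      rw [Subgroup.mem_center_iff.1 hg h, mul_inv_cancel_right] at hh
      exact hz (left_eq_mul.1 hh)
    · rintro (rfl | rfl)
      · exact one_mem _
      · exact Subgroup.mem_center_iff.2 hzc
  have hcc : commutator E = Subgroup.center E := by
    refine le_antisymm ?_ fun g hg => ?_
    · rw [commutator_def, Subgroup.commutator_le]
      intro g _ h _
      rw [hcen, commutatorElement_def]
      rcases hcomm h g with e | e
      · exact Or.inl (by rw [e, mul_inv_cancel])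
      · exact Or.inr (by rw [e, hzc, mul_inv_cancel_right])
    · rcases (hcen g).1 hg with rfl | rfl
      · exact one_mem _
      obtain ⟨u, hu1, hu2⟩ := hex
      obtain ⟨h, hh⟩ := hnc u hu1 hu2
      have e : ⁅h, u⁆ = g := by rw [commutatorElement_def, hh, hzc, mul_inv_cancel_right]
      rw [← e]
      exact Subgroup.commutator_mem_commutator (Subgroup.mem_top h) (Subgroup.mem_top u)
  refine ⟨⟨hE, le_antisymm (SquareMaps.frattini_le _ fun g => ?_)
    (hcc ▸ PGroups.commutator_le_frattini hE), hcc⟩, ?_⟩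
  · rw [hcen, pow_two]
    exact hsq g
  · have h : (Subgroup.center E : Set E) = {1, z} := by
      ext g
      simpa using hcen g
    rw [← SetLike.coe_sort_coe, h, Nat.card_coe_set_eq, Set.ncard_pair (Ne.symm hz)]

theorem pow_big {x : C1} (hx : x ∈ Q1) : x ^ 4096 = 1 := by
  have h : (x * x) * (x * x) = 1 := by
    rw [sq_coord8 hx]; split_ifs
    · exact one_mul 1
    · exact zq_sq
  rw [show 4096 = 4 * 1024 from rfl, pow_mul, show x ^ 4 = (x * x) * (x * x) by simp only [pow_succ, pow_zero, one_mul, mul_assoc], h, one_pow]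

theorem exists_pol8 (c : V8) (hc : c ≠ 0) : ∃ d, pol qf c d = 1 := exists_pol_one c hc

variable {p m : ℕ} (D : Datum p m)

theorem pow_4096 {G : Type*} [Group G] (D : Datum p m) {g : G} (h : g ^ p = 1) : g ^ 4096 = g := by
  rw [← Nat.mod_add_div 4096 p, D.mod_eq, pow_add, pow_mul, h, one_pow, pow_one, mul_one]

theorem eq_one_of_mem (D : Datum p m) {x : C1} (hx : x ∈ Q1) (h : x ^ p = 1) : x = 1 :=
  (pow_4096 D h).symm.trans (pow_big hx)

theorem rho2_of_mem {x : C1} (hx : x ∈ Q1) : rho2 x = 1 :=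
  MonoidHom.mem_ker.1 (by rw [ker_rho2]; exact hx)

theorem mem_of_rho2 {x : C1} (hx : rho2 x = 1) : x ∈ Q1 := by
  rw [← ker_rho2]
  exact hx

theorem exists_lift_σ : ∃ a : C1, rho2 a = D.σ ∧ a ^ p = 1 := by
  obtain ⟨b, hb⟩ := exists_lift_omega D.σ_mem_omega
  refine ⟨b ^ 4096, by rw [map_pow, hb, pow_4096 D D.pow_eq], ?_⟩
  rw [← pow_mul, mul_comm, pow_mul]
  exact pow_big (mem_of_rho2 (by rw [map_pow, hb, D.pow_eq]))

theorem not_dvd (D : Datum p m) : ¬ p ∣ Nat.card rho2.ker := by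
  rw [ker_rho2, Co1Cent.card_Q1]
  intro h
  have h2 := (Nat.prime_dvd_prime_iff_eq D.prime Nat.prime_two).1 (D.prime.dvd_of_dvd_pow h)
  obtain ⟨k, hk⟩ := D.odd
  omega

variable {a : C1} (ha : rho2 a = D.σ) (hap : a ^ p = 1)

include ha hap in
theorem orderOf_a : orderOf a = p :=
  orderOf_prime' D.prime hap fun h => D.ne_one (by rw [← ha, h, map_one])

include hap in
theorem zpowers_mem_Q1 (D : Datum p m) {g : C1} (hg : g ∈ Subgroup.zpowers a) (hQ : g ∈ Q1) : g = 1 := by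
  refine eq_one_of_mem D hQ ?_
  obtain ⟨i, rfl⟩ := Subgroup.mem_zpowers_iff.1 hg
  rw [← zpow_natCast, ← zpow_mul, mul_comm, zpow_mul, zpow_natCast, hap, one_zpow]

/-- The centraliser inside the involution centraliser. -/
noncomputable abbrev HH (a : C1) : Subgroup C1 := Subgroup.centralizer {a}

theorem commute_HH (h : HH a) : Commute (h : C1) a := Subgroup.mem_centralizer_singleton_iff.1 h.2

/-- The coordinates on the fixed space. -/
noncomputable def wc (x : C1) : (Fin m ⊕ Fin m) ⊕ Fin 2 → ZMod 2 := D.prj *ᵥ coord8 x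

theorem wc_mul {x y : C1} (hx : x ∈ Q1) (hy : y ∈ Q1) : wc D (x * y) = wc D x + wc D y := by
  rw [wc, coord8_mul hx hy, Matrix.mulVec_add]
  rfl

include ha in
theorem emb_wc {x : C1} (hx : x ∈ Q1) (hxa : x ∈ HH a) : D.emb *ᵥ wc D x = coord8 x := by
  refine D.fixed _ ?_
  rw [← ha, mv_rho2_coord8 a hx, ← (commute_HH ⟨x, hxa⟩).eq, mul_inv_cancel_right]

include ha hap in
theorem mem_HH_of {x : C1} (hx : x ∈ Q1) {w : (Fin m ⊕ Fin m) ⊕ Fin 2 → ZMod 2}
    (hw : coord8 x = D.emb *ᵥ w) : x ∈ HH a := by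
  have h1 : coord8 (a * x * a⁻¹) = coord8 x := by
    rw [← mv_rho2_coord8 a hx, ha, hw, D.fix_emb]
  rcases eq_or_of_coord8_eq hx (conj_mem_Q1 a hx) h1.symm with e | e
  · exact Subgroup.mem_centralizer_singleton_iff.2 (mul_inv_eq_iff_eq_mul.1 e).symm
  exfalso
  have key : ∀ n : ℕ, a ^ n * x * (a ^ n)⁻¹ = x * zq ^ n := by
    intro n
    induction n with
    | zero => simp
    | succ n ih =>
      rw [pow_succ, pow_succ', mul_inv_rev]
      calc a ^ n * a * x * (a⁻¹ * (a ^ n)⁻¹) = a ^ n * (a * x * a⁻¹) * (a ^ n)⁻¹ := by group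
        _ = (a ^ n * x * (a ^ n)⁻¹) * (a ^ n * zq * (a ^ n)⁻¹) := by rw [e]; group
        _ = x * zq ^ n * zq := by rw [ih, zq_comm, mul_inv_cancel_right]
        _ = x * (zq * zq ^ n) := by rw [mul_assoc, ← pow_succ, ← pow_succ']
  have h := key p
  rw [hap, one_mul, inv_one, mul_one] at h
  obtain ⟨k, hk⟩ := D.odd
  rw [hk, pow_succ, pow_mul, pow_two, zq_sq, one_pow, one_mul] at h
  exact zq_ne_one (left_eq_mul.1 h)

include ha hap in
theorem exists_wc (w : (Fin m ⊕ Fin m) ⊕ Fin 2 → ZMod 2) :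
    ∃ x ∈ Q1, x ∈ HH a ∧ wc D x = w := by
  obtain ⟨x, hx, hxc⟩ := coord8_surjective (D.emb *ᵥ w)
  exact ⟨x, hx, mem_HH_of D ha hap hx hxc, by rw [wc, hxc, D.prj_emb]⟩

include ha in
theorem wc_eq_zero {x : C1} (hx : x ∈ Q1) (hxa : x ∈ HH a) (h : wc D x = 0) : x = 1 ∨ x = zq :=
  coord8_eq_zero hx (by rw [← emb_wc D ha hx hxa, h, Matrix.mulVec_zero])

/-- The action as elements of the centraliser of the element of the orthogonal group. -/
noncomputable def toCO (ha : rho2 a = D.σ) : HH a →* D.CO :=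
  (rho2.comp (HH a).subtype).codRestrict _ fun h => Subgroup.mem_centralizer_singleton_iff.2 (by
    show rho2 h * D.σ = D.σ * rho2 h
    rw [← ha, ← map_mul, ← map_mul, (commute_HH h).eq])

/-- The action on the fixed space. -/
noncomputable def th (ha : rho2 a = D.σ) (hi : (Cfsg.Omega (ZMod 2) (fW m)).index = 2) :
    HH a →* Cfsg.Omega (ZMod 2) (fW m) :=
  (D.res.comp (toCO D ha)).codRestrict _ fun h =>
    D.res_mem_omega hi _ (by rw [← range_rho2]; exact ⟨(h : C1), rfl⟩)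

variable (hi : (Cfsg.Omega (ZMod 2) (fW m)).index = 2)

theorem toCO_coe (h : HH a) :
    ((toCO D ha h : D.CO) : Cfsg.isometryGroup (ZMod 2) f8) = rho2 (h : C1) := rfl

theorem th_coe (h : HH a) :
    ((th D ha hi h : Cfsg.Omega (ZMod 2) (fW m)) : Cfsg.isometryGroup (ZMod 2) (fW m)) =
      D.res (toCO D ha h) := rfl

theorem wc_conj (h : HH a) {q : C1} (hq : q ∈ Q1) (hqa : q ∈ HH a) :
    wc D ((h : C1) * q * (h : C1)⁻¹) =
      mv (th D ha hi h : Cfsg.isometryGroup (ZMod 2) (fW m)) (wc D q) := by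
  have hh : (h : C1) * q * (h : C1)⁻¹ ∈ HH a := mul_mem (mul_mem h.2 hqa) (inv_mem h.2)
  refine D.emb_injective ?_
  show D.emb *ᵥ wc D _ = D.emb *ᵥ _
  rw [emb_wc D ha (conj_mem_Q1 _ hq) hh,
    show (th D ha hi h : Cfsg.isometryGroup (ZMod 2) (fW m)) = D.res (toCO D ha h) from rfl,
    D.emb_res, emb_wc D ha hq hqa]
  exact (mv_rho2_coord8 _ hq).symm

theorem th_eq_one {h : HH a} (hh : th D ha hi h = 1) :
    ∃ q ∈ Q1, q ∈ HH a ∧ ∃ i : ℤ, (h : C1) = q * a ^ i := by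
  have h1 : D.res (toCO D ha h) = 1 := by
    rw [← th_coe D ha hi h, hh]
    rfl
  have h2 : (rho2 (h : C1)) ∈ Subgroup.zpowers D.σ := by
    rw [← toCO_coe D ha h]
    exact D.mem_zpowers_of_res _ h1
  obtain ⟨i, hi'⟩ := Subgroup.mem_zpowers_iff.1 h2
  refine ⟨(h : C1) * (a ^ i)⁻¹, mem_of_rho2 ?_, ?_, i, (inv_mul_cancel_right _ _).symm⟩
  · rw [map_mul, map_inv, map_zpow, ha, hi']
    exact mul_inv_cancel _
  · exact mul_mem h.2 (inv_mem (zpow_mem (Subgroup.mem_centralizer_singleton_iff.2 rfl) i))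

theorem th_of_mem {h : HH a} (hq : (h : C1) ∈ Q1) : th D ha hi h = 1 := by
  refine Subtype.ext ?_
  show D.res (toCO D ha h) = 1
  have : toCO D ha h = 1 := Subtype.ext (rho2_of_mem hq)
  rw [this, map_one]

theorem th_gen {h : HH a} (hh : (h : C1) ∈ Subgroup.zpowers a) : th D ha hi h = 1 := by
  obtain ⟨i, hi'⟩ := Subgroup.mem_zpowers_iff.1 hh
  refine Subtype.ext (iso_ext fun w => ?_)
  show mv (D.res (toCO D ha h)) w = mv 1 w
  rw [mv_one]
  refine D.emb_injective ?_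
  show D.emb *ᵥ _ = D.emb *ᵥ w
  rw [D.emb_res, show ((toCO D ha h : D.CO) : Cfsg.isometryGroup (ZMod 2) f8) = rho2 (h : C1) from rfl,
    ← hi', map_zpow, ha]
  have hfix : ∀ g : Cfsg.isometryGroup (ZMod 2) f8, g ∈ Subgroup.zpowers D.σ →
      mv g (D.emb *ᵥ w) = D.emb *ᵥ w := by
    intro g hg
    let S : Subgroup (Cfsg.isometryGroup (ZMod 2) f8) :=
      { carrier := {g | mv g (D.emb *ᵥ w) = D.emb *ᵥ w}
        one_mem' := mv_one _
        mul_mem' := fun {x y} hx hy => by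
          show mv (x * y) _ = _
          rw [mv_mul, hy, hx]
        inv_mem' := fun {x} hx => by
          show mv x⁻¹ _ = _
          conv_lhs => rw [← hx]
          exact mv_inv x _ }
    exact (Subgroup.zpowers_le.2 (show D.σ ∈ S from D.fix_emb w)) hg
  exact hfix _ (Subgroup.mem_zpowers_iff.2 ⟨i, rfl⟩)

include hap in
theorem th_surjective : Function.Surjective (th D ha hi) := by
  rintro ⟨w, hw⟩
  obtain ⟨g, hg⟩ := exists_lift_omega (D.ext_mem_omega hw)
  have hgσ : rho2 (g * a * g⁻¹) = rho2 a := by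
    rw [map_mul, map_mul, map_inv, hg, ha, (D.ext_comm w).eq, mul_inv_cancel_right]
  obtain ⟨q, hq, hqa⟩ := exists_conj_ker D.prime rho2 (not_dvd D) hap
    (show (g * a * g⁻¹) ^ p = 1 by rw [conj_pow, hap, mul_one, mul_inv_cancel]) hgσ.symm
    (by rw [ha]; exact D.ne_one)
  have hh : q⁻¹ * g ∈ HH a := Subgroup.mem_centralizer_singleton_iff.2 (by
    calc q⁻¹ * g * a = q⁻¹ * (g * a * g⁻¹) * g := by group
      _ = q⁻¹ * (q * a * q⁻¹) * g := by rw [hqa]
      _ = a * (q⁻¹ * g) := by group)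
  refine ⟨⟨_, hh⟩, Subtype.ext ?_⟩
  show D.res (toCO D ha ⟨_, hh⟩) = w
  have : toCO D ha ⟨_, hh⟩ = D.extC w := Subtype.ext (by
    show rho2 (q⁻¹ * g) = D.ext w
    rw [map_mul, map_inv, MonoidHom.mem_ker.1 hq, inv_one, one_mul, hg])
  rw [this, D.res_extC]

end Cfsg.Agent.Lib.Co1Local52
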