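import Cfsg.Agent.Lib.LargeExtra.Basic

/-!
A simplicity criterion: an involution whose centraliser is a two-group of symplectic type extended
by a simple group acting irreducibly, and which is moved into this two-group in both directions.
-/

set_option autoImplicit false

namespace Cfsg.Agent.Lib.Co1Local52

variable {G : Type*} [Group G]

/-- The hypotheses of the criterion. -/
structure BigTwo (Q : Subgroup G) (z : G) : Prop where
  ne_one : z ≠ 1
  sq : z * z = 1
  mem : z ∈ Q
  pgroup : IsPGroup 2 Q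
  comm : ∀ q ∈ Q, Commute q z
  norm : ∀ c : G, Commute c z → ∀ q ∈ Q, c * q * c⁻¹ ∈ Q
  cases : ∀ q ∈ Q, ∀ r ∈ Q, r * q * r⁻¹ = q ∨ r * q * r⁻¹ = q * z
  noncentral : ∀ q ∈ Q, q ≠ 1 → q ≠ z → ∃ r ∈ Q, r * q * r⁻¹ = q * z
  big : 8 < Nat.card Q
  cent : ∀ c : G, (∀ q ∈ Q, Commute c q) → c ∈ Q
  simple : ∀ N : Subgroup G, Q ≤ N → (∀ x ∈ N, Commute x z) →
    (∀ c : G, Commute c z → ∀ x ∈ N, c * x * c⁻¹ ∈ N) →
    N ≤ Q ∨ ∀ c : G, Commute c z → c ∈ N
  irred : ∀ M : Subgroup G, M ≤ Q → (∀ c : G, Commute c z → ∀ x ∈ M, c * x * c⁻¹ ∈ M) →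
    (∃ x ∈ M, x ≠ 1 ∧ x ≠ z) → Q ≤ M

theorem BigTwo.isSimple [Finite G] {Q : Subgroup G} {z : G} (h : BigTwo Q z) {g : G}
    (h1 : g * z * g⁻¹ ∈ Q) (h2 : g⁻¹ * z * g ∈ Q) (hne : g * z * g⁻¹ ≠ z) : IsSimpleGroup G := by
  have : Nontrivial G := ⟨⟨z, 1, h.ne_one⟩⟩
  have hzi : z⁻¹ = z := inv_eq_of_mul_eq_one_right h.sq
  have hy1 : g * z * g⁻¹ ≠ 1 := fun e => h.ne_one (conj_eq_one_iff.1 e)
  refine ⟨fun N hN => ?_⟩
  by_cases hzN : z ∈ N
  · right
    have hyN : g * z * g⁻¹ ∈ N := hN.conj_mem z hzN g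
    have hQN : Q ≤ N := (h.irred (N ⊓ Q) inf_le_right
      (fun c hc x hx => ⟨hN.conj_mem x hx.1 c, h.norm c hc x hx.2⟩)
      ⟨_, ⟨hyN, h1⟩, hy1, hne⟩).trans inf_le_left
    rcases h.simple (N ⊓ Subgroup.centralizer {z})
      (le_inf hQN fun q hq => Subgroup.mem_centralizer_singleton_iff.2 (h.comm q hq).eq)
      (fun x hx => Subgroup.mem_centralizer_singleton_iff.1 hx.2)
      (fun c hc x hx => ⟨hN.conj_mem x hx.1 c, (Subgroup.centralizer {z}).mul_mem
        ((Subgroup.centralizer {z}).mul_mem (Subgroup.mem_centralizer_singleton_iff.2 hc.eq) hx.2)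
        ((Subgroup.centralizer {z}).inv_mem (Subgroup.mem_centralizer_singleton_iff.2 hc.eq))⟩)
      with hA | hA
    · exfalso
      set y := g⁻¹ * z * g with hy
      have hyne1 : y ≠ 1 := fun e => h.ne_one (by
        calc z = g * y * g⁻¹ := by rw [hy]; group
          _ = 1 := by rw [e, mul_one, mul_inv_cancel])
      have hynez : y ≠ z := fun e => hne (by
        calc g * z * g⁻¹ = g * y * g⁻¹ := by rw [e]
          _ = z := by rw [hy]; group)
      obtain ⟨r, hr, hry⟩ := h.noncentral y h2 hyne1 hynez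
      have key : ∀ a ∈ Q, Commute a y → g * a * g⁻¹ ∈ Q := fun a ha hay => by
        refine hA ⟨hN.conj_mem a (hQN ha) g, Subgroup.mem_centralizer_singleton_iff.2 ?_⟩
        have : Commute (g * a * g⁻¹) (g * y * g⁻¹) := (Commute.conj_iff g).2 hay
        rwa [hy, show g * (g⁻¹ * z * g) * g⁻¹ = z by group] at this
      have hab : ∀ a ∈ Q, Commute a y → ∀ b ∈ Q, Commute b y → Commute a b := by
        intro a ha hay b hb hby
        rcases h.cases b hb a ha with e | e
        · exact mul_inv_eq_iff_eq_mul.1 e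
        exfalso
        have e' : g * a * g⁻¹ * (g * b * g⁻¹) * (g * a * g⁻¹)⁻¹ = g * b * g⁻¹ * (g * z * g⁻¹) := by
          calc g * a * g⁻¹ * (g * b * g⁻¹) * (g * a * g⁻¹)⁻¹ = g * (a * b * a⁻¹) * g⁻¹ := by group
            _ = g * (b * z) * g⁻¹ := by rw [e]
            _ = _ := by group
        rcases h.cases _ (key b hb hby) _ (key a ha hay) with e2 | e2 <;> rw [e'] at e2
        · exact hy1 (mul_eq_left.1 e2)
        · exact hne (mul_left_cancel e2)
      have hsub : ∀ a ∈ Q, Commute a y → a = 1 ∨ a = z ∨ a = y ∨ a = y * z := by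
        intro a ha hay
        have central : ∀ c ∈ Q, Commute c y → Commute r c → c = 1 ∨ c = z := by
          intro c hc hcy hrc
          by_contra hcon
          rw [not_or] at hcon
          obtain ⟨q, hq, hqc⟩ := h.noncentral c hc hcon.1 hcon.2
          have hcq : Commute q c := by
            rcases h.cases y h2 q hq with e | e
            · exact hab q hq (mul_inv_eq_iff_eq_mul.1 e) c hc hcy
            · have hk : Commute (r⁻¹ * q) y := by
                show r⁻¹ * q * y = y * (r⁻¹ * q)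
                calc r⁻¹ * q * y = r⁻¹ * (q * y * q⁻¹) * q := by group
                  _ = r⁻¹ * (r * y * r⁻¹) * q := by rw [e, hry]
                  _ = y * (r⁻¹ * q) := by group
              have hkc := hab _ (Q.mul_mem (Q.inv_mem hr) hq) hk c hc hcy
              have := hrc.mul_left hkc
              rwa [mul_inv_cancel_left] at this
          rw [hcq.eq, mul_inv_cancel_right] at hqc
          exact h.ne_one (left_eq_mul.1 hqc)
        rcases h.cases a ha r hr with e | e
        · rcases central a ha hay (mul_inv_eq_iff_eq_mul.1 e) with e' | e'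
          · exact Or.inl e'
          · exact Or.inr (Or.inl e')
        · have hc : Commute r (y⁻¹ * a) := by
            refine mul_inv_eq_iff_eq_mul.1 ?_
            calc r * (y⁻¹ * a) * r⁻¹ = (r * y * r⁻¹)⁻¹ * (r * a * r⁻¹) := by group
              _ = z⁻¹ * y⁻¹ * (a * z) := by rw [hry, e, mul_inv_rev]
              _ = z⁻¹ * ((y⁻¹ * a) * z) := by group
              _ = y⁻¹ * a := by
                rw [(h.comm _ (Q.mul_mem (Q.inv_mem h2) ha)).eq, inv_mul_cancel_left]
          rcases central _ (Q.mul_mem (Q.inv_mem h2) ha)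
              ((Commute.refl y).inv_left.mul_left hay) hc with e' | e'
          · exact Or.inr (Or.inr (Or.inl (inv_mul_eq_one.1 e').symm))
          · exact Or.inr (Or.inr (Or.inr (inv_mul_eq_iff_eq_mul.1 e')))
      have hA4 : Set.ncard {a : G | a ∈ Q ∧ Commute a y} ≤ 4 := by
        refine (Set.ncard_le_ncard (t := {1, z, y, y * z}) ?_).trans ?_
        · rintro a ⟨ha, hay⟩
          simpa using hsub a ha hay
        · refine (Set.ncard_insert_le _ _).trans ?_
          refine Nat.add_le_add_right ((Set.ncard_insert_le _ _).trans ?_) 1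
          refine Nat.add_le_add_right ((Set.ncard_insert_le _ _).trans ?_) 1
          rw [Set.ncard_singleton]
      have hcover : (Q : Set G) ⊆
          {a : G | a ∈ Q ∧ Commute a y} ∪ (r * ·) '' {a : G | a ∈ Q ∧ Commute a y} := by
        intro q hq
        rcases h.cases y h2 q hq with e | e
        · exact Or.inl ⟨hq, mul_inv_eq_iff_eq_mul.1 e⟩
        · refine Or.inr ⟨r⁻¹ * q, ⟨Q.mul_mem (Q.inv_mem hr) hq, ?_⟩, mul_inv_cancel_left r q⟩
          show r⁻¹ * q * y = y * (r⁻¹ * q)
          calc r⁻¹ * q * y = r⁻¹ * (q * y * q⁻¹) * q := by group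
            _ = r⁻¹ * (r * y * r⁻¹) * q := by rw [e, hry]
            _ = y * (r⁻¹ * q) := by group
      have hle := (Set.ncard_le_ncard hcover).trans (Set.ncard_union_le _ _)
      have himg := Set.ncard_image_le (f := fun a : G => r * a) (s := {a : G | a ∈ Q ∧ Commute a y})
      have hb := h.big
      rw [← Nat.card_coe_set_eq] at hle
      have hQc : Nat.card Q = Nat.card (Q : Set G) := rfl
      omega
    · have : Fact (Nat.Prime 2) := ⟨Nat.prime_two⟩
      obtain ⟨T, hT⟩ := h.pgroup.exists_le_sylow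
      have hTn : Nontrivial (T : Subgroup G) :=
        ⟨⟨⟨z, hT h.mem⟩, 1, fun e => h.ne_one (congrArg Subtype.val e)⟩⟩
      have hTc : ∀ w : (T : Subgroup G), w ∈ Subgroup.center (T : Subgroup G) →
          (w : G) = 1 ∨ (w : G) = z := by
        intro w hw
        by_contra hcon
        rw [not_or] at hcon
        have hwQ : (w : G) ∈ Q := h.cent _ fun q hq =>
          (congrArg Subtype.val (Subgroup.mem_center_iff.1 hw ⟨q, hT hq⟩)).symm
        obtain ⟨q, hq, hqw⟩ := h.noncentral _ hwQ hcon.1 hcon.2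
        have hcq : q * (w : G) = (w : G) * q :=
          congrArg Subtype.val (Subgroup.mem_center_iff.1 hw ⟨q, hT hq⟩)
        rw [hcq, mul_inv_cancel_right] at hqw
        exact h.ne_one (left_eq_mul.1 hqw)
      have hzT : ∀ t ∈ (T : Subgroup G), Commute t z := by
        have hcn : Nontrivial (Subgroup.center (T : Subgroup G)) := T.2.center_nontrivial
        obtain ⟨w, hw⟩ := exists_ne (1 : Subgroup.center (T : Subgroup G))
        rcases hTc w.1 w.2 with e | e
        · exact absurd (Subtype.ext (Subtype.ext e)) hw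
        · intro t ht
          rw [← e]
          exact congrArg Subtype.val (Subgroup.mem_center_iff.1 w.2 ⟨t, ht⟩)
      have hTN : (T : Subgroup G) ≤ N := fun t ht => (hA t (hzT t ht)).1
      have := hN
      have hF := Sylow.normalizer_sup_eq_top (T.subtype hTN)
      rw [Sylow.coe_subtype, Subgroup.map_subgroupOf_eq_of_le hTN] at hF
      refine eq_top_iff.2 ?_
      rw [← hF]
      refine sup_le (fun c hc => (hA c ?_).1) le_rfl
      have hzc : c * z * c⁻¹ ∈ (T : Subgroup G) := (Subgroup.mem_normalizer_iff.1 hc z).1 (hT h.mem)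
      have hcen : (⟨c * z * c⁻¹, hzc⟩ : (T : Subgroup G)) ∈ Subgroup.center (T : Subgroup G) := by
        rw [Subgroup.mem_center_iff]
        rintro ⟨t, ht⟩
        refine Subtype.ext ?_
        show t * (c * z * c⁻¹) = c * z * c⁻¹ * t
        have ht' : c⁻¹ * t * c ∈ (T : Subgroup G) :=
          (Subgroup.mem_normalizer_iff.1 hc (c⁻¹ * t * c)).2 (by
            rwa [show c * (c⁻¹ * t * c) * c⁻¹ = t by group])
        have hc2 := (Commute.conj_iff c).2 (hzT _ ht')
        rw [show c * (c⁻¹ * t * c) * c⁻¹ = t by group] at hc2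
        exact hc2.eq
      rcases hTc _ hcen with e | e
      · exact absurd (conj_eq_one_iff.1 e) h.ne_one
      · exact mul_inv_eq_iff_eq_mul.1 e
  · left
    have hzc : ∀ n ∈ N, Commute n z → n = 1 := by
      intro n hn hnz
      have hNQ : ∀ w ∈ N, w ∈ Q → w = 1 := by
        intro w hwN hwQ
        by_contra hw1
        by_cases hwz : w = z
        · exact hzN (hwz ▸ hwN)
        obtain ⟨r, -, hr⟩ := h.noncentral w hwQ hw1 hwz
        have hm := N.mul_mem (N.inv_mem hwN) (hN.conj_mem w hwN r)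
        rw [hr, inv_mul_cancel_left] at hm
        exact hzN hm
      refine hNQ n hn (h.cent n fun q hq => ?_)
      have e : n * q * n⁻¹ * q⁻¹ = 1 := by
        refine hNQ _ ?_ (Q.mul_mem (h.norm n hnz q hq) (Q.inv_mem hq))
        rw [show n * q * n⁻¹ * q⁻¹ = n * (q * n⁻¹ * q⁻¹) by group]
        exact N.mul_mem hn (hN.conj_mem _ (N.inv_mem hn) q)
      exact mul_inv_eq_iff_eq_mul.1 (mul_inv_eq_one.1 e)
    have inv_of : ∀ c : G, ∀ n ∈ N, c * z * c⁻¹ * n * (c * z * c⁻¹)⁻¹ = n⁻¹ := by
      intro c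
      refine LargeExtra.Basic.inverts_of_fixedPointFree
        (by rw [conj_mul, h.sq, mul_one, mul_inv_cancel]) N (fun k hk => hN.conj_mem k hk _) ?_
      intro k hk e
      have hcomm : Commute (c⁻¹ * k * c) z := by
        refine (Commute.conj_iff c).1 ?_
        rw [show c * (c⁻¹ * k * c) * c⁻¹ = k by group]
        exact (mul_inv_eq_iff_eq_mul.1 e).symm
      have hm : c⁻¹ * k * c ∈ N := by simpa using hN.conj_mem k hk c⁻¹
      have := hzc _ hm hcomm
      calc k = c * (c⁻¹ * k * c) * c⁻¹ := by group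
        _ = 1 := by rw [this, mul_one, mul_inv_cancel]
    obtain ⟨q, -, hq⟩ := h.noncentral _ h1 hy1 hne
    refine (Subgroup.eq_bot_iff_forall N).2 fun n hn => hzc n hn ?_
    have i1 := inv_of 1 n hn
    rw [one_mul, inv_one, mul_one] at i1
    have i2 := inv_of g (z * n * z⁻¹) (hN.conj_mem n hn z)
    have i3 := inv_of (q * g) n hn
    rw [show q * g * z * (q * g)⁻¹ = q * (g * z * g⁻¹) * q⁻¹ by group, hq] at i3
    rw [show g * z * g⁻¹ * (z * n * z⁻¹) * (g * z * g⁻¹)⁻¹ =
      g * z * g⁻¹ * z * n * (g * z * g⁻¹ * z)⁻¹ by group, i3, i1, inv_inv] at i2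
    rw [i2] at i1
    exact (mul_inv_eq_iff_eq_mul.1 i1).symm

end Cfsg.Agent.Lib.Co1Local52
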