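import Cfsg.Agent.Lib.Co1Local52.Codes
import Cfsg.Agent.Lib.Co1Local52.Fusion
import Cfsg.Agent.Lib.Co1Local52.Stab
import Cfsg.Agent.Lib.OrthOmega.Simple
import Cfsg.Agent.Lib.LowIso.Small

/-!
An element of order three with a six-dimensional fixed space of minus type.
-/

set_option autoImplicit false

namespace Cfsg.Agent.Lib.Co1Local52.Three

open Cfsg
open Cfsg.Agent.Lib.Co1Cent (V8 qf)
open scoped Matrix

/-- The matrix of the element. -/
def M : Matrix (Fin 4 ⊕ Fin 4) (Fin 4 ⊕ Fin 4) (ZMod 2) := ofCols [16, 48, 4, 8, 51, 18, 64, 128]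

/-- Its inverse. -/
def M' : Matrix (Fin 4 ⊕ Fin 4) (Fin 4 ⊕ Fin 4) (ZMod 2) := ofCols [51, 33, 4, 8, 1, 3, 64, 128]

/-- A second element on a disjoint plane. -/
def N : Matrix (Fin 4 ⊕ Fin 4) (Fin 4 ⊕ Fin 4) (ZMod 2) := ofCols [48, 32, 4, 8, 33, 51, 64, 128]

/-- Its inverse. -/
def N' : Matrix (Fin 4 ⊕ Fin 4) (Fin 4 ⊕ Fin 4) (ZMod 2) := ofCols [18, 51, 4, 8, 3, 2, 64, 128]

/-- An inverting involution. -/
def I3 : Matrix (Fin 4 ⊕ Fin 4) (Fin 4 ⊕ Fin 4) (ZMod 2) := ofCols [51, 48, 4, 8, 16, 18, 64, 128]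

/-- An involution exchanging the two planes. -/
def SW : Matrix (Fin 4 ⊕ Fin 4) (Fin 4 ⊕ Fin 4) (ZMod 2) := ofCols [2, 1, 4, 8, 32, 16, 64, 128]

theorem M_inv : M * M' = 1 ∧ M' * M = 1 := by decide +kernel

theorem N_inv : N * N' = 1 ∧ N' * N = 1 := by decide +kernel

theorem I3_inv : I3 * I3 = 1 ∧ I3 * I3 = 1 := by decide +kernel

theorem SW_inv : SW * SW = 1 ∧ SW * SW = 1 := by decide +kernel

theorem M_form : ∀ v : V8, qf (M *ᵥ v) = qf v := by decide +kernel

theorem N_form : ∀ v : V8, qf (N *ᵥ v) = qf v := by decide +kernel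

theorem I3_form : ∀ v : V8, qf (I3 *ᵥ v) = qf v := by decide +kernel

theorem SW_form : ∀ v : V8, qf (SW *ᵥ v) = qf v := by decide +kernel

/-- The element. -/
def σ : Cfsg.isometryGroup (ZMod 2) f8 := mkIso M M' M_inv.1 M_inv.2 M_form

/-- The second element. -/
def σ' : Cfsg.isometryGroup (ZMod 2) f8 := mkIso N N' N_inv.1 N_inv.2 N_form

/-- The inverting involution. -/
def τ : Cfsg.isometryGroup (ZMod 2) f8 := mkIso I3 I3 I3_inv.1 I3_inv.2 I3_form

/-- The exchanging involution. -/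
def sw : Cfsg.isometryGroup (ZMod 2) f8 := mkIso SW SW SW_inv.1 SW_inv.2 SW_form

theorem three_test : (∀ v : V8, M *ᵥ (M *ᵥ (M *ᵥ v)) = v) ∧
    (∀ v : V8, N *ᵥ (N *ᵥ (N *ᵥ v)) = v) ∧ (∀ v : V8, M *ᵥ (N *ᵥ v) = N *ᵥ (M *ᵥ v)) := by
  decide +kernel

theorem conj_test : (∀ v : V8, I3 *ᵥ (M *ᵥ (M *ᵥ v)) = M *ᵥ (I3 *ᵥ v)) ∧
    ∀ v : V8, SW *ᵥ (N *ᵥ v) = M *ᵥ (SW *ᵥ v) := by
  decide +kernel

theorem σ_pow : σ ^ 3 = 1 := by
  refine iso_ext fun v => ?_
  simp only [pow_succ, pow_zero, one_mul, mv_mul, mv_one]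
  exact three_test.1 v

theorem σ'_pow : σ' ^ 3 = 1 := by
  refine iso_ext fun v => ?_
  simp only [pow_succ, pow_zero, one_mul, mv_mul, mv_one]
  exact three_test.2.1 v

theorem σ_comm : Commute σ σ' := iso_ext fun v => by
  simp only [mv_mul]
  exact three_test.2.2 v

theorem τ_conj : τ * σ ^ 2 * τ⁻¹ = σ := by
  rw [mul_inv_eq_iff_eq_mul]
  refine iso_ext fun v => ?_
  simp only [pow_succ, pow_zero, one_mul, mv_mul]
  exact conj_test.1 v

theorem sw_conj : sw * σ' * sw⁻¹ = σ := by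
  rw [mul_inv_eq_iff_eq_mul]
  refine iso_ext fun v => ?_
  simp only [mv_mul]
  exact conj_test.2 v

/-- The embedding. -/
def E : Matrix (Fin 4 ⊕ Fin 4) ((Fin 2 ⊕ Fin 2) ⊕ Fin 2) (ZMod 2) :=
  embOf 2 [4, 8, 64, 128, 34, 19]

/-- The projection. -/
def P : Matrix ((Fin 2 ⊕ Fin 2) ⊕ Fin 2) (Fin 4 ⊕ Fin 4) (ZMod 2) :=
  prjOf 2 [16, 32, 1, 2, 16, 48, 4, 8]

theorem P_E : ∀ w, P *ᵥ (E *ᵥ w) = w := by decide +kernel

theorem M_E : ∀ w, M *ᵥ (E *ᵥ w) = E *ᵥ w := by decide +kernel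

theorem P_M : ∀ v : V8, P *ᵥ (M *ᵥ v) = P *ᵥ v := by decide +kernel

theorem M_fixed : ∀ v : V8, M *ᵥ v = v → E *ᵥ (P *ᵥ v) = v := by decide +kernel

theorem split_test : ∀ v : V8, qf v = fW 2 (P *ᵥ v) + qf (v + E *ᵥ (P *ᵥ v)) := by decide +kernel

/-- The iterates of the cyclic vector. -/
def its : Fin 3 → V8 := fun k => Co1Cent.dec (([17, 35, 50] : List ℕ).getD (k : ℕ) 0)

theorem its_step : ∀ k, M *ᵥ its k = its (k + 1) := by decide +kernel

theorem perp_test : (∀ j, pol f8 (E *ᵥ Pi.single j 1) (its 0) = 0) ∧ f8 (its 0) = 1 := by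
  decide +kernel

theorem cand_test : ∀ y : V8, f8 y = 1 → (∀ j, pol f8 (E *ᵥ Pi.single j 1) y = 0) →
    pol f8 y (M *ᵥ y) = pol f8 (its 0) (its 1) →
    pol f8 y (M *ᵥ (M *ᵥ y)) = pol f8 (its 0) (its (1 + 1)) → ∃ i, y = its i := by
  decide +kernel

theorem span_test : ∀ v : V8, ∃ b : Fin 3 → ZMod 2, v + E *ᵥ (P *ᵥ v) = ∑ k, b k • its k := by
  decide +kernel

/-- The datum. -/
def D : Datum 3 2 where
  prime := by norm_num
  odd := by decide
  mod_eq := by norm_num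
  σ := σ
  pow_eq := σ_pow
  ne_one h := by
    have h' : M *ᵥ its 0 = its 0 :=
      (congrArg (fun g : Cfsg.isometryGroup (ZMod 2) f8 => mv g (its 0)) h).trans (mv_one _)
    revert h'
    decide +kernel
  emb := E
  prj := P
  prj_emb := P_E
  fix_emb := M_E
  prj_fix := P_M
  fixed := M_fixed
  split := split_test
  cyclic := cyclic_of σ E P its its_step M_E perp_test.1 perp_test.2 cand_test span_test

theorem emb_w0 : E *ᵥ decW 2 2 = w0 := by decide +kernel

theorem aniso : ∀ z₁ z₂ : ZMod 2, z₁ ^ 2 + 1 * z₁ * z₂ + 1 * z₂ ^ 2 = 0 → z₁ = 0 ∧ z₂ = 0 := by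
  decide +kernel

theorem index_W : (Cfsg.Omega (ZMod 2) (fW 2)).index = 2 :=
  omega_index (Forms.qMinus 2 1 1) (fun v => (Forms.qMinus_apply 2 1 1 v).symm)
    (Forms.qMinus_nondeg 2 aniso) (by simp) (by simp)

theorem card_omega_W : Nat.card (Cfsg.Omega (ZMod 2) (fW 2)) = 25920 := by
  have hiso : Nat.card (Cfsg.isometryGroup (ZMod 2) (fW 2)) = 51840 := by
    have h := OrthStd.card_orth_minus (F := ZMod 2) (q := 2) (ZMod.card 2) 3 (by norm_num)
      (a := 1) (b := 1) aniso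
    simpa [Finset.prod_range_succ] using h
  have h := Subgroup.card_mul_index (Cfsg.Omega (ZMod 2) (fW 2))
  rw [index_W, hiso] at h
  omega

theorem simple_nonab : IsSimpleGroup (Cfsg.Omega (ZMod 2) (fW 2)) ∧
    ∃ u v : Cfsg.Omega (ZMod 2) (fW 2), u * v ≠ v * u := by
  have hsP : IsSimpleGroup (Cfsg.POmega (ZMod 2) (fW 2)) :=
    OrthOmega.isSimpleGroup_pOmega_minus (F := ZMod 2) 2 le_rfl aniso
  have hP : Nat.card (Cfsg.POmega (ZMod 2) (fW 2)) = 25920 := by
    have h := OrthOmega.card_pOmega_minus (F := ZMod 2) (q := 2) (ZMod.card 2) 3 (by norm_num)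
      (a := 1) (b := 1) aniso
    norm_num [Finset.prod_range_succ] at h
    exact h
  have : Finite (Cfsg.Omega (ZMod 2) (fW 2)) :=
    Nat.finite_of_card_ne_zero (by rw [card_omega_W]; norm_num)
  have hb : Function.Bijective
      (QuotientGroup.mk' (Subgroup.center (Cfsg.Omega (ZMod 2) (fW 2)))) :=
    (Nat.bijective_iff_surjective_and_card _).2
      ⟨QuotientGroup.mk'_surjective _, by rw [card_omega_W]; exact hP.symm⟩
  have hS := (MulEquiv.ofBijective _ hb).isSimpleGroup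
  refine ⟨hS, ?_⟩
  by_contra hcon
  push Not at hcon
  let _ : CommGroup (Cfsg.Omega (ZMod 2) (fW 2)) :=
    { (inferInstance : Group (Cfsg.Omega (ZMod 2) (fW 2))) with mul_comm := hcon }
  have hp := IsSimpleGroup.prime_card (α := Cfsg.Omega (ZMod 2) (fW 2))
  rw [card_omega_W] at hp
  norm_num at hp

theorem irr : ∀ M : AddSubgroup ((Fin 2 ⊕ Fin 2) ⊕ Fin 2 → ZMod 2),
    (∀ g ∈ Cfsg.Omega (ZMod 2) (fW 2), ∀ w ∈ M, mv g w ∈ M) → (∃ w ∈ M, w ≠ 0) → M = ⊤ :=
  irr_of D index_W (by decide +kernel) (by decide +kernel) (by decide +kernel) (by decide +kernel)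

theorem σ'_mem : σ' ∈ Cfsg.Omega (ZMod 2) f8 := by
  have h : (σ' * σ') ^ 2 = σ' := by
    rw [← pow_two, ← pow_mul, show 2 * 2 = 3 + 1 by norm_num, pow_succ, σ'_pow, one_mul]
  rw [← h]
  exact pow_mem (Subgroup.mul_self_mem_of_index_two omega8_index _) _

theorem fix_test : M *ᵥ w0 = w0 ∧ N *ᵥ w0 = w0 := by decide +kernel

/-- The singular vector paired with the base vector. -/
def y0 : V8 := Pi.single (Sum.inr 3) 1

theorem y0_test : qf y0 = 0 ∧ pol qf w0 y0 = 1 ∧ M *ᵥ y0 = y0 ∧ N *ᵥ y0 = y0 := by decide +kernel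

theorem pol_add_left (a b c : V8) : pol qf (a + b) c = pol qf a c + pol qf b c := by
  have e : ∀ x y : V8, pol qf x y = QuadraticMap.polar (Forms.qPlus (F := ZMod 2) 4) x y := by
    intro x y
    simp only [pol, qf, QuadraticMap.polar, OrthStd.quadFormPlus_eq, CharTwo.sub_eq_add]
  rw [e, e, e, QuadraticMap.polar_add_left]

/-- An element of the radical is determined by the image of one vector. -/
theorem rad_det {r s : Cfsg.isometryGroup (ZMod 2) qf}
    (hr : mv r w0 = w0 ∧ ∀ c : V8, pol qf c w0 = 0 → mv r c = c ∨ mv r c = c + w0)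
    (hs : mv s w0 = w0 ∧ ∀ c : V8, pol qf c w0 = 0 → mv s c = c ∨ mv s c = c + w0)
    (h : mv r y0 = mv s y0) : r = s := by
  have hw : pol qf w0 (mv r y0) = 1 := by
    conv_lhs => rw [← hr.1]
    rw [pol_mv, y0_test.2.1]
  have perp : ∀ c : V8, pol qf c w0 = 0 → mv r c = mv s c := by
    intro c hc
    have e : pol qf (mv r c) (mv r y0) = pol qf (mv s c) (mv r y0) := by
      rw [pol_mv, h, pol_mv]
    rcases hr.2 c hc with e1 | e1 <;> rcases hs.2 c hc with e2 | e2 <;> rw [e1, e2] at e ⊢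
    · rw [pol_add_left, hw, left_eq_add] at e
      exact absurd e one_ne_zero
    · rw [pol_add_left, hw, add_eq_left] at e
      exact absurd e one_ne_zero
  refine iso_ext fun c => ?_
  rcases zc (pol qf c w0) with e | e
  · exact perp c e
  · have hc : pol qf (c + y0) w0 = 0 := by
      rw [pol_add_left, e, pol_comm' y0, y0_test.2.1]
      decide
    have h2 := perp _ hc
    rw [mv_add, mv_add, h] at h2
    exact add_right_cancel h2
where
  zc : ∀ a : ZMod 2, a = 0 ∨ a = 1 := by decide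

/-- A radical part of order sixteen does not commute with a product of the two elements. -/
theorem not_rad (π : Cfsg.isometryGroup (ZMod 2) qf) (hy : mv π y0 = y0)
    (hcount : (Finset.univ.filter fun y : V8 =>
      mv π y = y ∧ qf y = 0 ∧ pol qf w0 y = 1).card ≤ 4) : ¬ RadPart 2 π := by
  rintro ⟨R, hR, hRp⟩
  have := finite_iso8
  let φ : R → {y : V8 // mv π y = y ∧ qf y = 0 ∧ pol qf w0 y = 1} := fun r =>
    ⟨mv (r : Cfsg.isometryGroup (ZMod 2) qf) y0,
      by rw [← mv_mul, ← (hRp r r.2).1.eq, mv_mul, hy],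
      by rw [mv_form (f := qf), y0_test.1],
      by
        conv_lhs => rw [← (hRp r r.2).2.1]
        rw [pol_mv, y0_test.2.1]⟩
  have hφ : Function.Injective φ := fun r s e =>
    Subtype.ext (rad_det (hRp r r.2).2 (hRp s s.2).2 (congrArg Subtype.val e))
  have h := Nat.card_le_card_of_injective φ hφ
  rw [Nat.card_eq_fintype_card (α := {y : V8 // mv π y = y ∧ qf y = 0 ∧ pol qf w0 y = 1}),
    Fintype.card_subtype] at h
  norm_num at hR
  omega

theorem radPart_conj {g h : Cfsg.isometryGroup (ZMod 2) qf} (hw : mv h w0 = w0)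
    (hg : RadPart 2 g) : RadPart 2 (h * g * h⁻¹) := by
  obtain ⟨R, hR, hRp⟩ := hg
  refine ⟨R.map (MulAut.conj h).toMonoidHom, ?_, ?_⟩
  · rw [← Nat.card_congr
      (R.equivMapOfInjective _ (MulAut.conj h).injective).toEquiv]
    exact hR
  · rintro _ ⟨r, hr, rfl⟩
    obtain ⟨h1, h2, h3⟩ := hRp r hr
    have hinv : mv h⁻¹ w0 = w0 := by
      conv_lhs => rw [← hw]
      exact mv_inv h w0
    show Commute (h * r * h⁻¹) (h * g * h⁻¹) ∧ mv (h * r * h⁻¹) w0 = w0 ∧ _
    refine ⟨(Commute.conj_iff h).2 h1, by rw [mv_mul, mv_mul, hinv, h2, hw], fun c hc => ?_⟩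
    show mv (h * r * h⁻¹) c = c ∨ mv (h * r * h⁻¹) c = c + w0
    rw [mv_mul, mv_mul]
    have hc' : pol qf (mv h⁻¹ c) w0 = 0 := by
      rw [← hinv, pol_mv, hc]
    rcases h3 _ hc' with e | e <;> rw [e]
    · exact Or.inl (mv_inv' h c)
    · exact Or.inr (by rw [mv_add, mv_inv', hw])

theorem count_test :
    (Finset.univ.filter fun y : V8 => M *ᵥ (N *ᵥ y) = y ∧ qf y = 0 ∧ pol qf w0 y = 1).card ≤ 4 ∧
    (Finset.univ.filter fun y : V8 =>
      M *ᵥ (N *ᵥ (N *ᵥ y)) = y ∧ qf y = 0 ∧ pol qf w0 y = 1).card ≤ 4 ∧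
    (Finset.univ.filter fun y : V8 =>
      M *ᵥ (M *ᵥ (N *ᵥ y)) = y ∧ qf y = 0 ∧ pol qf w0 y = 1).card ≤ 4 ∧
    (Finset.univ.filter fun y : V8 =>
      M *ᵥ (M *ᵥ (N *ᵥ (N *ᵥ y))) = y ∧ qf y = 0 ∧ pol qf w0 y = 1).card ≤ 4 := by
  decide +kernel

theorem exists_pow_lt {G : Type} [Group G] {x : G} {n : ℕ} (hx : x ^ n = 1) (hn : 0 < n) {y : G}
    (hy : y ∈ Subgroup.zpowers x) : ∃ k, k < n ∧ x ^ k = y := by
  obtain ⟨i, rfl⟩ := Subgroup.mem_zpowers_iff.1 hy
  refine ⟨(i % n).toNat, by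
    have := Int.emod_lt_of_pos i (show (0 : ℤ) < n by omega)
    have := Int.emod_nonneg i (show (n : ℤ) ≠ 0 by omega)
    omega, ?_⟩
  rw [← zpow_natCast, Int.toNat_of_nonneg (Int.emod_nonneg i (by omega)), Int.emod_def, zpow_sub,
    zpow_mul, zpow_natCast, hx, one_zpow, inv_one, mul_one]

theorem commute_zpowers : ∀ (a : Subgroup.zpowers σ) (b : Subgroup.zpowers σ'),
    Commute ((Subgroup.zpowers σ).subtype a) ((Subgroup.zpowers σ').subtype b) := by
  rintro ⟨_, i, rfl⟩ ⟨_, j, rfl⟩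
  exact σ_comm.zpow_zpow i j

/-- The abelian subgroup of order nine. -/
noncomputable def S : Subgroup (Cfsg.isometryGroup (ZMod 2) qf) :=
  (MonoidHom.noncommCoprod (Subgroup.zpowers σ).subtype (Subgroup.zpowers σ').subtype
    commute_zpowers).range

theorem mem_S {x : Cfsg.isometryGroup (ZMod 2) qf} (hx : x ∈ S) :
    ∃ i < 3, ∃ j < 3, σ ^ i * σ' ^ j = x := by
  obtain ⟨⟨⟨a, ha⟩, b, hb⟩, rfl⟩ := hx
  obtain ⟨i, hi, rfl⟩ := exists_pow_lt σ_pow (by norm_num) ha
  obtain ⟨j, hj, rfl⟩ := exists_pow_lt σ'_pow (by norm_num) hb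
  exact ⟨i, hi, j, hj, rfl⟩

theorem σ'_ne : σ' ≠ 1 := by
  intro h
  have h' : N *ᵥ Co1Cent.dec 34 = Co1Cent.dec 34 :=
    (congrArg (fun g : Cfsg.isometryGroup (ZMod 2) f8 => mv g (Co1Cent.dec 34)) h).trans (mv_one _)
  revert h'
  decide +kernel

theorem pow_fix {g : Cfsg.isometryGroup (ZMod 2) qf} {v : V8} (h : mv g v = v) (n : ℕ) :
    mv (g ^ n) v = v := by
  induction n with
  | zero => rw [pow_zero, mv_one]
  | succ k ih => rw [pow_succ', mv_mul, ih, h]

theorem card_S : Nat.card S = 9 := by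
  have hinj : Function.Injective (MonoidHom.noncommCoprod (Subgroup.zpowers σ).subtype
      (Subgroup.zpowers σ').subtype commute_zpowers) := by
    rw [injective_iff_map_eq_one]
    rintro ⟨⟨a, ha⟩, b, hb⟩ e
    have e' : a * b = 1 := e
    obtain ⟨i, hi, rfl⟩ := exists_pow_lt σ_pow (by norm_num) ha
    obtain ⟨j, hj, rfl⟩ := exists_pow_lt σ'_pow (by norm_num) hb
    have hu : mv (σ' ^ j) (its 0) = its 0 := pow_fix (g := σ') (v := its 0) (show N *ᵥ its 0 = its 0 by decide +kernel) j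
    have hii : mv (σ ^ i) (its 0) = its 0 := by
      conv_lhs => rw [← hu]
      rw [← mv_mul, e', mv_one]
    have hi0 : i = 0 := by
      revert hii
      interval_cases i <;> simp only [pow_succ, pow_zero, one_mul, mv_mul, mv_one] <;>
        intro hii
      · trivial
      · exact absurd hii (show ¬ M *ᵥ its 0 = its 0 by decide +kernel)
      · exact absurd hii (show ¬ M *ᵥ (M *ᵥ its 0) = its 0 by decide +kernel)
    subst hi0
    rw [pow_zero, one_mul] at e'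
    exact Prod.ext (Subtype.ext (pow_zero σ)) (Subtype.ext e')
  rw [S, ← Nat.card_congr (MonoidHom.ofInjective hinj).toEquiv, Nat.card_prod, Nat.card_zpowers,
    Nat.card_zpowers, orderOf_prime' Nat.prime_three σ_pow D.ne_one,
    orderOf_prime' Nat.prime_three σ'_pow σ'_ne]

theorem fusion : ∀ g ∈ Cfsg.Omega (ZMod 2) qf, g ^ 3 = 1 → g ≠ 1 → mv g w0 = w0 → RadPart 2 g →
    ∃ t : Cfsg.isometryGroup (ZMod 2) qf, t * g * t⁻¹ = D.σ := by
  intro g hg hgp hg1 hgw hrad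
  obtain ⟨h, hhw, hh⟩ := exists_conj_into (p := 3) Nat.prime_three S
    (fun x hx => by
      obtain ⟨i, -, j, -, rfl⟩ := mem_S hx
      exact mul_mem (pow_mem D.σ_mem_omega _) (pow_mem σ'_mem _))
    (fun x hx => by
      obtain ⟨i, -, j, -, rfl⟩ := mem_S hx
      rw [mv_mul, pow_fix (g := σ') fix_test.2, pow_fix (g := σ) fix_test.1])
    (by
      rw [card_S, show (1290240 : ℕ) = 3 ^ 2 * 143360 by norm_num,
        Nat.factorization_mul (by norm_num) (by norm_num), Finsupp.add_apply,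
        Nat.factorization_eq_zero_of_not_dvd (show ¬ 3 ∣ 143360 by norm_num),
        Nat.Prime.factorization_pow Nat.prime_three, Finsupp.single_eq_same, add_zero]
      norm_num)
    hg hgp hgw
  obtain ⟨i, hi, j, hj, e⟩ := mem_S hh
  have base : ∀ k, k * (h * g * h⁻¹) * k⁻¹ = σ →
      ∃ t : Cfsg.isometryGroup (ZMod 2) qf, t * g * t⁻¹ = D.σ := fun k hk =>
    ⟨k * h, by rw [show (D.σ : Cfsg.isometryGroup (ZMod 2) qf) = σ from rfl, ← hk]; group⟩
  have hrad' := radPart_conj hhw hrad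
  rw [← e] at hrad'
  interval_cases i <;> interval_cases j
  · exfalso
    rw [pow_zero, pow_zero, one_mul] at e
    exact hg1 (conj_eq_one_iff.1 e.symm)
  · refine base sw ?_
    rw [← e, pow_zero, one_mul, pow_one, sw_conj]
  · refine base (τ * sw) ?_
    rw [← e, pow_zero, one_mul]
    calc τ * sw * σ' ^ 2 * (τ * sw)⁻¹ = τ * ((sw * σ' * sw⁻¹) * (sw * σ' * sw⁻¹)) * τ⁻¹ := by
          rw [pow_two]; group
      _ = σ := by rw [sw_conj, ← pow_two, τ_conj]
  · refine base 1 ?_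
    rw [← e, pow_zero, mul_one, pow_one, one_mul, inv_one, mul_one]
  · refine absurd hrad' (not_rad _ ?_ ?_)
    · rw [pow_one, pow_one, mv_mul]
      exact (congrArg (mv σ) y0_test.2.2.2).trans y0_test.2.2.1
    · simp only [pow_one, mv_mul]
      exact count_test.1
  · refine absurd hrad' (not_rad _ ?_ ?_)
    · rw [mv_mul, pow_fix (g := σ') y0_test.2.2.2, pow_fix (g := σ) y0_test.2.2.1]
    · simp only [pow_succ, pow_zero, one_mul, mv_mul]
      exact count_test.2.1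
  · refine base τ ?_
    rw [← e, pow_zero, mul_one, τ_conj]
  · refine absurd hrad' (not_rad _ ?_ ?_)
    · rw [mv_mul, pow_fix (g := σ') y0_test.2.2.2, pow_fix (g := σ) y0_test.2.2.1]
    · simp only [pow_succ, pow_zero, one_mul, mv_mul]
      exact count_test.2.2.1
  · refine absurd hrad' (not_rad _ ?_ ?_)
    · rw [mv_mul, pow_fix (g := σ') y0_test.2.2.2, pow_fix (g := σ) y0_test.2.2.1]
    · simp only [pow_succ, pow_zero, one_mul, mv_mul]
      exact count_test.2.2.2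

theorem exists_ctx : Nonempty (Ctx 3 2) := by
  obtain ⟨a, ha, hap⟩ := exists_lift_σ D
  obtain ⟨W⟩ := exists_swap_w0
  exact ⟨{ D := D, a := a, ha := ha, hap := hap, hm := one_le_two, hi := index_W,
           hs := simple_nonab.1, nonab := simple_nonab.2, irr := irr, W := W, hw := ⟨_, emb_w0⟩,
           fusion := fusion }⟩

end Cfsg.Agent.Lib.Co1Local52.Three
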